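import Cfsg.Agent.Lib.PGroup.UniversalSchmidt.Field
import Mathlib.GroupTheory.Abelianization.Defs
import Mathlib.GroupTheory.Commutator.Basic
import Mathlib.GroupTheory.PGroup

/-!
# Central covers of the module `(E, ζ)`: order bound and universality
-/

set_option autoImplicit false
set_option linter.unusedSectionVars false

open Polynomial Subgroup
open scoped commutatorElement

namespace CfsgLib.UniversalSchmidt

variable {p q a : ℕ} [hp : Fact p.Prime] [hq : Fact q.Prime]
variable {E : Type*} [Field E] [Finite E] [Algebra (ZMod p) E]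

/-- A central extension of `E` with an automorphism of order `q` over multiplication by `ζ`. -/
structure Cover (q : ℕ) (ζ : E) (P : Type*) [Group P] where
  α : MulAut P
  π : P →* Multiplicative E
  surj : Function.Surjective π
  equiv : ∀ g, π (α g) = Multiplicative.ofAdd (ζ * (π g).toAdd)
  central : π.ker ≤ center P
  fixed : ∀ z ∈ π.ker, α z = z
  pow_eq : α ^ q = 1
  gen : closure (Set.range fun g : P => g⁻¹ * α g) = ⊤

variable {ζ : E} {P : Type*} [Group P]

theorem Cover.mem_ker_iff (C : Cover q ζ P) {g : P} : g ∈ C.π.ker ↔ C.π g = 1 := Iff.rfl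

theorem Cover.pow_succ_apply (C : Cover q ζ P) (k : ℕ) (g : P) : (C.α ^ (k + 1)) g = C.α ((C.α ^ k) g) := by
  rw [pow_succ']; rfl

theorem Cover.pow_add_apply (C : Cover q ζ P) (i j : ℕ) (g : P) : (C.α ^ (i + j)) g = (C.α ^ i) ((C.α ^ j) g) := by
  rw [pow_add]; rfl

theorem Cover.equiv_pow (C : Cover q ζ P) (k : ℕ) (g : P) :
    C.π ((C.α ^ k) g) = Multiplicative.ofAdd (ζ ^ k * (C.π g).toAdd) := by
  induction k with
  | zero => simp
  | succ k ih => rw [C.pow_succ_apply, C.equiv, ih, toAdd_ofAdd, pow_succ', mul_assoc]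

theorem Cover.fixed_pow (C : Cover q ζ P) (k : ℕ) {z : P} (hz : z ∈ C.π.ker) : (C.α ^ k) z = z := by
  induction k with
  | zero => simp
  | succ k ih => rw [C.pow_succ_apply, ih, C.fixed z hz]

theorem Cover.commutator_mem_ker (C : Cover q ζ P) (g h : P) : ⁅g, h⁆ ∈ C.π.ker := by
  rw [C.mem_ker_iff, map_commutatorElement, commutatorElement_eq_one_iff_mul_comm, mul_comm]

theorem Cover.commutator_mul (C : Cover q ζ P) (g x y : P) : ⁅g, x * y⁆ = ⁅g, x⁆ * ⁅g, y⁆ := by
  have : ⁅g, x * y⁆ = ⁅g, x⁆ * (x * ⁅g, y⁆ * x⁻¹) := by simp only [commutatorElement_def]; group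
  rw [this, mem_center_iff.1 (C.central (C.commutator_mem_ker g y)) x, mul_inv_cancel_right]

/-- The commutator with `g` as a homomorphism into the kernel. -/
def Cover.comHom (C : Cover q ζ P) (g : P) : P →* C.π.ker :=
  MonoidHom.mk' (fun x => ⟨⁅g, x⁆, C.commutator_mem_ker g x⟩) fun x y =>
    Subtype.ext (C.commutator_mul g x y)

theorem Cover.ker_comm (C : Cover q ζ P) (z w : C.π.ker) : z * w = w * z :=
  Subtype.ext (mem_center_iff.1 (C.central w.2) z)

variable [Finite P]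

include hp in
theorem Cover.ker_le_commutator (C : Cover q ζ P) (hP : IsPGroup p P) (hpq : p ≠ q) : C.π.ker ≤ commutator P := by
  intro z hz
  let N : P →* Abelianization P :=
    ∏ i ∈ Finset.range q, Abelianization.of.comp (C.α ^ i).toMonoidHom
  have hN : ∀ g, N g = ∏ i ∈ Finset.range q, Abelianization.of ((C.α ^ i) g) := fun g => by
    simp [N]
  have h0 : N = 1 := by
    refine MonoidHom.eq_of_eqOn_dense C.gen ?_
    rintro _ ⟨g, rfl⟩
    rw [hN, MonoidHom.one_apply]
    have : ∀ i, Abelianization.of ((C.α ^ i) (g⁻¹ * C.α g)) =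
        Abelianization.of ((C.α ^ (i + 1)) g) / Abelianization.of ((C.α ^ i) g) := fun i => by
      rw [map_mul, map_inv, map_mul, map_inv, pow_succ, MulAut.mul_apply, div_eq_mul_inv, mul_comm]
    simp only [this]
    rw [Finset.prod_range_div (fun i => Abelianization.of ((C.α ^ i) g)), C.pow_eq, pow_zero,
      div_self']
  have h1 := hN z
  simp only [h0, MonoidHom.one_apply, C.fixed_pow _ hz, Finset.prod_const, Finset.card_range] at h1
  rw [← Abelianization.ker_of, MonoidHom.mem_ker]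
  obtain ⟨k, hk⟩ := hP z
  exact orderOf_eq_one_iff.1 (Nat.eq_one_of_dvd_coprimes
    (Nat.Coprime.pow_right k ((Nat.coprime_primes hq.out hp.out).2 (Ne.symm hpq)))
    (orderOf_dvd_of_pow_eq_one h1.symm)
    ((orderOf_map_dvd Abelianization.of z).trans (orderOf_dvd_of_pow_eq_one hk)))

include hp in
/-- An invariant subgroup with nontrivial image is everything. -/
theorem Cover.eq_top (C : Cover q ζ P) (hP : IsPGroup p P) (hpq : p ≠ q) (ha : a = orderOf (p : ZMod q))
    (hE : Nat.card E = p ^ a) (hζ : orderOf ζ = q) {U : Subgroup P} (hU : ∀ x ∈ U, C.α x ∈ U) {e : P}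
    (he : e ∈ U) (he' : C.π e ≠ 1) : U = ⊤ := by
  let A : AddSubgroup E :=
    { carrier := {x | ∃ g ∈ U, (C.π g).toAdd = x}
      zero_mem' := ⟨1, one_mem U, by simp⟩
      add_mem' := by
        rintro x y ⟨g, hg, rfl⟩ ⟨h, hh, rfl⟩
        exact ⟨g * h, mul_mem hg hh, by simp⟩
      neg_mem' := by
        rintro x ⟨g, hg, rfl⟩
        exact ⟨g⁻¹, inv_mem hg, by simp⟩ }
  have hA : A = ⊤ := addSubgroup_eq_top ha hE hζ
    (by rintro x ⟨g, hg, rfl⟩; exact ⟨C.α g, hU g hg, by rw [C.equiv, toAdd_ofAdd]⟩)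
    (e := (C.π e).toAdd) ⟨e, he, rfl⟩ (fun h => he' (Multiplicative.toAdd.injective h))
  rw [eq_top_iff, ← C.gen, closure_le]
  rintro _ ⟨g, rfl⟩
  obtain ⟨v, hv, hv'⟩ : (C.π g).toAdd ∈ A := hA ▸ AddSubgroup.mem_top _
  have hk : v⁻¹ * g ∈ C.π.ker := by
    rw [C.mem_ker_iff, map_mul, map_inv, Multiplicative.toAdd.injective hv', inv_mul_cancel]
  have hc := mem_center_iff.1 (C.central hk)
  have : g⁻¹ * C.α g = v⁻¹ * C.α v := by
    have e1 : C.α g = C.α v * (v⁻¹ * g) := by
      rw [← C.fixed _ hk, ← map_mul, mul_inv_cancel_left]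
    rw [e1, hc, ← mul_assoc g⁻¹, hc g⁻¹]
    group
  show g⁻¹ * C.α g ∈ U
  rw [this]
  exact mul_mem (inv_mem hv) (hU v hv)

include hp in
/-- The order bound. -/
theorem Cover.card_le (C : Cover q ζ P) (hP : IsPGroup p P) (hpq : p ≠ q) (ha : a = orderOf (p : ZMod q))
    (hE : Nat.card E = p ^ a) (hζ : orderOf ζ = q) :
    Nat.card P ≤ p ^ (if a % 2 = 1 then a else 3 * a / 2) := by
  obtain ⟨u, hu⟩ := C.surj (Multiplicative.ofAdd (1 : E))
  have hz0 : ζ ≠ 0 := by
    rintro rfl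
    simp [orderOf_zero] at hζ
    exact hq.out.ne_zero hζ.symm
  have hπu : ∀ k, C.π ((C.α ^ k) u) = Multiplicative.ofAdd (ζ ^ k) := fun k => by
    rw [C.equiv_pow, hu, toAdd_ofAdd, mul_one]
  have hker : C.π.ker ≤ (C.comHom u).ker := fun z hz => Subtype.ext
    (commutatorElement_eq_one_iff_mul_comm.2 (mem_center_iff.1 (C.central hz) u))
  let L : Multiplicative E →* C.π.ker := C.π.liftOfSurjective C.surj ⟨C.comHom u, hker⟩
  have hL : ∀ g, L (C.π g) = C.comHom u g := fun g =>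
    MonoidHom.liftOfRightInverse_comp_apply C.π _ (Function.rightInverse_surjInv C.surj)
      ⟨C.comHom u, hker⟩ g
  have hqpow : C.α ^ q = 1 := C.pow_eq
  have hcomm : ∀ i k, ⁅(C.α ^ i) u, (C.α ^ (i + k)) u⁆ = (L (Multiplicative.ofAdd (ζ ^ k)) : P) := by
    intro i k
    rw [C.pow_add_apply, ← map_commutatorElement, C.fixed_pow _ (C.commutator_mem_ker _ _), ← hπu, hL]
    rfl
  have hinv : ∀ j, L (Multiplicative.ofAdd (ζ⁻¹ ^ j)) = (L (Multiplicative.ofAdd (ζ ^ j)))⁻¹ := by
    intro j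
    obtain ⟨i, hi⟩ : ∃ i, q ∣ j + i := ⟨j * (q - 1), ⟨j, by
      have := hq.out.pos
      obtain ⟨r, rfl⟩ : ∃ r, q = r + 1 := ⟨q - 1, by omega⟩
      simp only [Nat.add_sub_cancel]; ring⟩⟩
    have hii : ζ⁻¹ ^ j = ζ ^ i := by
      rw [inv_pow, inv_eq_of_mul_eq_one_right]
      rw [← pow_add]
      exact orderOf_dvd_iff_pow_eq_one.1 (hζ ▸ hi)
    rw [hii]
    refine Subtype.ext ?_
    have h1 := hcomm j i
    obtain ⟨m, hm⟩ := hi
    rw [hm, pow_mul, hqpow, one_pow, MulAut.one_apply] at h1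
    rw [← h1, Subgroup.coe_inv, ← hπu, hL]
    exact (commutatorElement_inv ..).symm
  have hL' : ∀ h : (ZMod p)[X], L (Multiplicative.ofAdd (aeval ζ⁻¹ h)) =
      (L (Multiplicative.ofAdd (aeval ζ h)))⁻¹ := by
    intro h
    induction h using Polynomial.induction_on' with
    | add f g hf hg =>
      simp only [map_add, ofAdd_add, map_mul, hf, hg, mul_inv_rev]
      exact C.ker_comm _ _
    | monomial n c =>
      obtain ⟨k, rfl⟩ := ZMod.natCast_zmod_surjective (n := p) c
      rw [aeval_monomial, aeval_monomial, map_natCast, ← nsmul_eq_mul, ← nsmul_eq_mul, ofAdd_nsmul,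
        ofAdd_nsmul, map_pow L, map_pow L, hinv, inv_pow]
  -- `L` is onto
  let R : Subgroup P := L.range.map C.π.ker.subtype
  have hR : ∀ i, ∀ g, ⁅(C.α ^ i) u, g⁆ ∈ R := by
    intro i
    let U : Subgroup P := R.comap (C.π.ker.subtype.comp (C.comHom ((C.α ^ i) u)))
    let U' : Subgroup P := ⨅ k, U.comap (C.α ^ k).toMonoidHom
    suffices U' = ⊤ by
      intro g
      have h1 : g ∈ U' := this ▸ mem_top g
      exact Subgroup.mem_iInf.1 h1 0
    refine C.eq_top hP hpq ha hE hζ (fun x hx => Subgroup.mem_iInf.2 fun k => ?_) (e := u) ?_ ?_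
    · have := Subgroup.mem_iInf.1 hx (k + 1)
      show (C.α ^ k) (C.α x) ∈ U
      rwa [mem_comap, MulEquiv.coe_toMonoidHom, pow_succ, MulAut.mul_apply] at this
    · refine Subgroup.mem_iInf.2 fun k => ?_
      show ⁅(C.α ^ i) u, (C.α ^ k) u⁆ ∈ R
      obtain ⟨l, hl⟩ : ∃ l, (C.α ^ (i + l)) = C.α ^ k := ⟨(q - 1) * i + k, by
        rw [← add_assoc, show i + (q - 1) * i = q * i by
          have := hq.out.pos
          obtain ⟨r, rfl⟩ : ∃ r, q = r + 1 := ⟨q - 1, by omega⟩
          simp only [Nat.add_sub_cancel]; ring, pow_add, pow_mul, hqpow, one_pow, one_mul]⟩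
      rw [← hl, hcomm]
      exact ⟨_, ⟨_, rfl⟩, rfl⟩
    · rw [hu]
      exact fun h => one_ne_zero (ofAdd_eq_one.1 h)
  have hR2 : ∀ c g : P, ⁅c, g⁆ ∈ R := by
    intro c g
    rw [show ⁅c, g⁆ = ⁅g, c⁆⁻¹ from (commutatorElement_inv ..).symm]
    refine inv_mem ?_
    let U : Subgroup P := R.comap (C.π.ker.subtype.comp (C.comHom g))
    let U' : Subgroup P := ⨅ k, U.comap (C.α ^ k).toMonoidHom
    suffices U' = ⊤ by exact Subgroup.mem_iInf.1 (this ▸ mem_top c : c ∈ U') 0
    refine C.eq_top hP hpq ha hE hζ (fun x hx => Subgroup.mem_iInf.2 fun k => ?_) (e := u) ?_ ?_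
    · have := Subgroup.mem_iInf.1 hx (k + 1)
      show (C.α ^ k) (C.α x) ∈ U
      rwa [mem_comap, MulEquiv.coe_toMonoidHom, pow_succ, MulAut.mul_apply] at this
    · refine Subgroup.mem_iInf.2 fun k => ?_
      show ⁅g, (C.α ^ k) u⁆ ∈ R
      rw [show ⁅g, (C.α ^ k) u⁆ = ⁅(C.α ^ k) u, g⁆⁻¹ from (commutatorElement_inv ..).symm]
      exact inv_mem (hR k g)
    · rw [hu]
      exact fun h => one_ne_zero (ofAdd_eq_one.1 h)
  have hsurj : Function.Surjective L := by
    intro z
    have h1 : commutator P ≤ R := by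
      rw [_root_.commutator_def, commutator_le]
      exact fun c _ g _ => hR2 c g
    obtain ⟨w, ⟨x, rfl⟩, hw⟩ := h1 (C.ker_le_commutator hP hpq z.2)
    exact ⟨x, Subtype.ext hw⟩
  -- count
  have hcardL : Nat.card C.π.ker * Nat.card L.ker = p ^ a := by
    rw [← hE, ← Nat.card_congr (Multiplicative.toAdd : Multiplicative E ≃ E), ← L.ker.index_mul_card, Subgroup.index_ker,
      MonoidHom.range_eq_top.2 hsurj, Subgroup.card_top]
  have hcard : Nat.card P = p ^ a * Nat.card C.π.ker := by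
    rw [← C.π.ker.index_mul_card, Subgroup.index_ker, MonoidHom.range_eq_top.2 C.surj,
      Subgroup.card_top, Nat.card_congr (Multiplicative.toAdd : Multiplicative E ≃ E), hE]
  rw [hcard]
  split_ifs with hpar
  · have : L.ker = ⊤ := by
      rw [eq_top_iff]
      intro x _
      by_cases ha1 : a = 1
      · obtain ⟨c, hc⟩ : ∃ c : ZMod p, algebraMap (ZMod p) E c = x.toAdd := by
          refine (Function.Injective.bijective_of_nat_card_le (algebraMap (ZMod p) E).injective ?_).2 _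
          rw [hE, ha1, pow_one, Nat.card_zmod]
        obtain ⟨k, rfl⟩ := ZMod.natCast_zmod_surjective (n := p) c
        rw [map_natCast] at hc
        have h1 : L (Multiplicative.ofAdd (1 : E)) = 1 := by
          rw [← hu, hL]; exact Subtype.ext (commutatorElement_self u)
        rw [MonoidHom.mem_ker, show x = Multiplicative.ofAdd (1 : E) ^ k by
          rw [← ofAdd_nsmul, nsmul_one, hc, ofAdd_toAdd], map_pow, h1, one_pow]
      · obtain ⟨h, h0, h1⟩ := exists_separating ha hE hpar ha1 hζ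
        obtain ⟨g, hg⟩ := aeval_surjective (p := p) ha hE
          (show orderOf ζ⁻¹ = q by
            have := orderOf_inv (Units.mk0 ζ hz0)
            rwa [← orderOf_units, ← orderOf_units, Units.val_inv_eq_inv_val, Units.val_mk0, hζ] at this)
          (x.toAdd / aeval ζ⁻¹ h)
        rw [MonoidHom.mem_ker, show x = Multiplicative.ofAdd (aeval ζ⁻¹ (h * g)) by
          rw [map_mul, hg, mul_div_cancel₀ _ h1, ofAdd_toAdd], hL', map_mul, h0, zero_mul, ofAdd_zero,
          map_one, inv_one]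
    rw [this, Subgroup.card_top, Nat.card_congr (Multiplicative.toAdd : Multiplicative E ≃ E), hE,
      Nat.mul_eq_right (pow_ne_zero _ hp.out.ne_zero)] at hcardL
    rw [hcardL, mul_one]
  · obtain ⟨b, hb⟩ : ∃ b, a = 2 * b := ⟨a / 2, by omega⟩
    have hb0 : b ≠ 0 := by have := pos hpq ha; omega
    obtain ⟨-, hT, -, -⟩ := trace_facts (E := E) hE hb hb0
    set T : E →+ E := AddMonoidHom.id E + (sigma p b E).toAddMonoidHom
    have hσ : sigma p b E ζ = ζ⁻¹ := eq_inv_of_mul_eq_one_left (sigma_root hpq ha hb hζ)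
    have hle : p ^ b ≤ Nat.card L.ker := by
      rw [← hT]
      refine Nat.card_le_card_of_injective (fun x => ⟨Multiplicative.ofAdd (x : E), ?_⟩)
        (fun x y h => Subtype.ext (congrArg (fun z : L.ker => Multiplicative.toAdd (z : Multiplicative E)) h))
      obtain ⟨y, hy⟩ := x.2
      obtain ⟨h, rfl⟩ := aeval_surjective (p := p) ha hE hζ y
      have h2 : sigma p b E (aeval ζ h) = aeval ζ⁻¹ h := by
        have := DFunLike.congr_fun (show (sigma p b E).comp (aeval ζ).toRingHom =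
          (aeval ζ⁻¹ : (ZMod p)[X] →ₐ[ZMod p] E).toRingHom from Polynomial.ringHom_ext'
            (RingHom.ext_zmod _ _) (by simp [hσ])) h
        simpa using this
      rw [MonoidHom.mem_ker, ← hy]
      show L (Multiplicative.ofAdd (aeval ζ h + sigma p b E (aeval ζ h))) = 1
      rw [h2, ofAdd_add, map_mul, hL', mul_inv_cancel]
    have h3 : Nat.card C.π.ker * p ^ b ≤ p ^ b * p ^ b :=
      le_of_le_of_eq (Nat.mul_le_mul_left _ hle) (by rw [hcardL, hb, two_mul, pow_add])
    calc p ^ a * Nat.card C.π.ker ≤ p ^ a * p ^ b :=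
          Nat.mul_le_mul_left _ (Nat.le_of_mul_le_mul_right h3 (pow_pos hp.out.pos b))
      _ = p ^ (3 * a / 2) := by rw [← pow_add]; congr 1; omega

omit [Finite P] in
include hp in
/-- A cover of the extremal order maps onto every cover. -/
theorem Cover.exists_hom (C : Cover q ζ P) [Finite P] (hP : IsPGroup p P) (hpq : p ≠ q) (ha : a = orderOf (p : ZMod q))
    (hE : Nat.card E = p ^ a) (hζ : orderOf ζ = q) {P₀ : Type*} [Group P₀] [Finite P₀]
    (C₀ : Cover q ζ P₀) (hP₀ : IsPGroup p P₀)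
    (hcard : Nat.card P₀ = p ^ (if a % 2 = 1 then a else 3 * a / 2)) :
    ∃ ψ : P₀ →* P, Function.Surjective ψ ∧ (∀ w, ψ (C₀.α w) = C.α (ψ w)) ∧
      ∀ w, C.π (ψ w) = C₀.π w := by
  let R : Subgroup (P × P₀) := (C.π.comp (MonoidHom.fst P P₀)).eqLocus (C₀.π.comp (MonoidHom.snd P P₀))
  let gs : Set (P × P₀) := (fun r : P × P₀ => (r.1⁻¹ * C.α r.1, r.2⁻¹ * C₀.α r.2)) '' (R : Set _)
  let S : Subgroup (P × P₀) := closure gs
  have hγR : ∀ r : P × P₀, r ∈ R → (C.α r.1, C₀.α r.2) ∈ R := fun r hr => by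
    show C.π (C.α r.1) = C₀.π (C₀.α r.2)
    rw [C.equiv, C₀.equiv, show C.π r.1 = C₀.π r.2 from hr]
  have hSR : S ≤ R := (closure_le _).2 (by
    rintro _ ⟨r, hr, rfl⟩
    exact mul_mem (inv_mem hr) (hγR r hr))
  let γ : MulAut (P × P₀) := MulEquiv.prodCongr C.α C₀.α
  have hγ : ∀ r, γ r = (C.α r.1, C₀.α r.2) := fun _ => rfl
  have hγk : ∀ (k : ℕ) (r : P × P₀), (γ ^ k) r = ((C.α ^ k) r.1, (C₀.α ^ k) r.2) := by
    intro k r
    induction k with
    | zero => simp
    | succ k ih => rw [pow_succ', MulAut.mul_apply, ih, hγ, C.pow_succ_apply, C₀.pow_succ_apply]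
  have hSinv : S.map γ.toMonoidHom = S := by
    refine eq_of_le_of_card_ge ?_ (card_map_of_injective γ.injective).ge
    rw [map_le_iff_le_comap, closure_le]
    rintro _ ⟨r, hr, rfl⟩
    refine subset_closure ⟨γ r, hγR r hr, ?_⟩
    simp [hγ]
  let δ : MulAut S := (γ.subgroupMap S).trans (MulEquiv.subgroupCongr hSinv)
  have hδ : ∀ s : S, ((δ s : S) : P × P₀) = γ s := fun _ => rfl
  have hδk : ∀ (k : ℕ) (s : S), (((δ ^ k) s : S) : P × P₀) = (γ ^ k) (s : P × P₀) := by
    intro k s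
    induction k with
    | zero => simp
    | succ k ih => rw [pow_succ', pow_succ', MulAut.mul_apply, MulAut.mul_apply, hδ, ih]
  let f₁ : S →* P := (MonoidHom.fst P P₀).comp S.subtype
  let f₀ : S →* P₀ := (MonoidHom.snd P P₀).comp S.subtype
  have hf₁ : Function.Surjective f₁ := by
    rw [← MonoidHom.range_eq_top, eq_top_iff, ← C.gen, closure_le]
    rintro _ ⟨g, rfl⟩
    obtain ⟨w, hw⟩ := C₀.surj (C.π g)
    exact ⟨⟨_, subset_closure ⟨(g, w), hw.symm, rfl⟩⟩, rfl⟩
  have hf₀ : Function.Surjective f₀ := by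
    rw [← MonoidHom.range_eq_top, eq_top_iff, ← C₀.gen, closure_le]
    rintro _ ⟨w, rfl⟩
    obtain ⟨g, hg⟩ := C.surj (C₀.π w)
    exact ⟨⟨_, subset_closure ⟨(g, w), hg, rfl⟩⟩, rfl⟩
  let D : Cover q ζ S :=
    { α := δ
      π := C.π.comp f₁
      surj := C.surj.comp hf₁
      equiv := fun s => C.equiv _
      central := fun s hs => by
        have h0 : (s : P × P₀).2 ∈ C₀.π.ker := (hSR s.2).symm.trans hs
        exact mem_center_iff.2 fun t => Subtype.ext (Prod.ext
          (mem_center_iff.1 (C.central hs) _) (mem_center_iff.1 (C₀.central h0) _))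
      fixed := fun s hs => by
        have h0 : (s : P × P₀).2 ∈ C₀.π.ker := (hSR s.2).symm.trans hs
        exact Subtype.ext (Prod.ext (C.fixed _ hs) (C₀.fixed _ h0))
      pow_eq := MulEquiv.ext fun s => Subtype.ext (by
        rw [hδk, hγk, C.pow_eq, C₀.pow_eq]; rfl)
      gen := by
        rw [eq_top_iff]
        refine le_trans (closure_closure_coe_preimage (k := gs)).ge (closure_mono ?_)
        intro s hs
        obtain ⟨r, hr, hrs⟩ := hs
        obtain ⟨t, ht⟩ := hf₁ r.1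
        have hk : (t : P × P₀).2⁻¹ * r.2 ∈ C₀.π.ker := by
          rw [C₀.mem_ker_iff, map_mul, map_inv, show C₀.π r.2 = C.π r.1 from hr.symm, ← ht,
            inv_mul_eq_one]
          exact (hSR t.2).symm
        refine ⟨t, Subtype.ext ?_⟩
        show ((f₁ t)⁻¹ * C.α (f₁ t), (t : P × P₀).2⁻¹ * C₀.α (t : P × P₀).2) = _
        rw [← hrs, ht]
        refine Prod.ext rfl ?_
        have e1 : C₀.α r.2 = C₀.α (t : P × P₀).2 * ((t : P × P₀).2⁻¹ * r.2) := by
          rw [← C₀.fixed _ hk, ← map_mul, mul_inv_cancel_left]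
        show (t : P × P₀).2⁻¹ * C₀.α (t : P × P₀).2 = r.2⁻¹ * C₀.α r.2
        rw [e1, mem_center_iff.1 (C₀.central hk), ← mul_assoc r.2⁻¹,
          mem_center_iff.1 (C₀.central hk) r.2⁻¹]
        group }
  have hS : IsPGroup p S := by
    intro s
    obtain ⟨i, hi⟩ := hP (s : P × P₀).1
    obtain ⟨j, hj⟩ := hP₀ (s : P × P₀).2
    refine ⟨i + j, Subtype.ext (Prod.ext ?_ ?_)⟩
    · show (s : P × P₀).1 ^ p ^ (i + j) = 1
      rw [pow_add, pow_mul, hi, one_pow]
    · show (s : P × P₀).2 ^ p ^ (i + j) = 1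
      rw [add_comm, pow_add, pow_mul, hj, one_pow]
  have hle : Nat.card S ≤ Nat.card P₀ := hcard ▸ D.card_le hS hpq ha hE hζ
  have hbij : Function.Bijective f₀ := hf₀.bijective_of_nat_card_le hle
  let e := MulEquiv.ofBijective f₀ hbij
  refine ⟨f₁.comp e.symm.toMonoidHom, hf₁.comp e.symm.surjective, fun w => ?_, fun w => ?_⟩
  · obtain ⟨s, rfl⟩ := e.surjective w
    have h1 : C₀.α (e s) = e (δ s) := rfl
    show f₁ (e.symm (C₀.α (e s))) = C.α (f₁ (e.symm (e s)))
    rw [h1, e.symm_apply_apply, e.symm_apply_apply]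
    rfl
  · obtain ⟨s, rfl⟩ := e.surjective w
    show C.π (f₁ (e.symm (e s))) = C₀.π (e s)
    rw [e.symm_apply_apply]
    exact hSR s.2

end CfsgLib.UniversalSchmidt
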