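import Mathlib.FieldTheory.Finite.GaloisField
import Mathlib.FieldTheory.Galois.Basic
import Mathlib.RingTheory.Adjoin.Polynomial.Basic

/-!
# The field generated by an element of prime order

`E` has `p ^ a` elements, where `a` is the order of `p` modulo the prime `q`, and `ζ : E` has order `q`.
-/

set_option autoImplicit false
set_option linter.unusedSectionVars false

open Polynomial

namespace CfsgLib.UniversalSchmidt

variable {p q a : ℕ} [hp : Fact p.Prime] [hq : Fact q.Prime]

theorem natCast_ne_zero (hpq : p ≠ q) : (p : ZMod q) ≠ 0 := by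
  rw [Ne, ZMod.natCast_eq_zero_iff p q]
  exact fun h => hpq ((Nat.prime_dvd_prime_iff_eq hq.out hp.out).1 h).symm

theorem pos (hpq : p ≠ q) (ha : a = orderOf (p : ZMod q)) : 0 < a := by
  rw [ha]
  refine Nat.pos_of_dvd_of_pos (orderOf_dvd_of_pow_eq_one ?_) (Nat.sub_pos_of_lt hq.out.one_lt)
  exact ZMod.pow_card_sub_one_eq_one (natCast_ne_zero hpq)

theorem exists_root (hpq : p ≠ q) (ha : a = orderOf (p : ZMod q)) {E : Type*} [Field E] [Finite E]
    (hE : Nat.card E = p ^ a) : ∃ ζ : E, orderOf ζ = q := by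
  have hd : q ∣ Nat.card Eˣ := by
    rw [Nat.card_units, hE, ← ZMod.natCast_eq_zero_iff, Nat.cast_sub (Nat.one_le_pow _ _ hp.out.pos)]
    rw [Nat.cast_pow, ha, pow_orderOf_eq_one, Nat.cast_one, sub_self]
  obtain ⟨z, hz⟩ := exists_prime_orderOf_dvd_card' q hd
  exact ⟨(z : E), by rw [orderOf_units, hz]⟩

theorem dvd_of_orderOf {K : Type*} [Field K] [Finite K] {d : ℕ} (hK : Nat.card K = p ^ d)
    (ha : a = orderOf (p : ZMod q)) {x : K} (hx : orderOf x = q) : a ∣ d := by
  haveI := Fintype.ofFinite K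
  have hx0 : x ≠ 0 := by
    rintro rfl
    simp [orderOf_zero] at hx
    exact hq.out.ne_zero hx.symm
  have h := orderOf_dvd_of_pow_eq_one (FiniteField.pow_card_sub_one_eq_one x hx0)
  rw [hx, ← Nat.card_eq_fintype_card, hK, ← ZMod.natCast_eq_zero_iff,
    Nat.cast_sub (Nat.one_le_pow _ _ hp.out.pos), Nat.cast_pow, Nat.cast_one, sub_eq_zero] at h
  exact ha ▸ orderOf_dvd_of_pow_eq_one h

theorem card_eq_pow (K : Type*) [Field K] [Finite K] [Algebra (ZMod p) K] :
    Nat.card K = p ^ Module.finrank (ZMod p) K := by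
  rw [Module.natCard_eq_pow_finrank (K := ZMod p), Nat.card_zmod]

variable {E : Type*} [Field E] [Finite E] [Algebra (ZMod p) E]

/-- An element of order `q` generates. -/
theorem aeval_surjective (ha : a = orderOf (p : ZMod q)) (hE : Nat.card E = p ^ a) {ζ : E}
    (hζ : orderOf ζ = q) : Function.Surjective (aeval ζ : (ZMod p)[X] →ₐ[ZMod p] E) := by
  set T := (aeval ζ : (ZMod p)[X] →ₐ[ZMod p] E).range
  have hx : orderOf (⟨ζ, X, aeval_X ζ⟩ : T) = q := by
    rw [← orderOf_injective (T.val : T →* E) Subtype.val_injective ⟨ζ, X, aeval_X ζ⟩]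
    exact hζ
  have hle : Nat.card T ≤ Nat.card E := Nat.card_le_card_of_injective _ Subtype.val_injective
  have hcT : Nat.card T = p ^ Module.finrank (ZMod p) T := by
    rw [Module.natCard_eq_pow_finrank (K := ZMod p), Nat.card_zmod]
  have hd : a ∣ Module.finrank (ZMod p) T :=
    letI := Fintype.ofFinite T
    letI := Classical.decEq T
    letI := Fintype.fieldOfDomain T
    dvd_of_orderOf (K := T) hcT ha hx
  have hT : T = ⊤ := by
    refine SetLike.coe_injective ?_
    rw [Algebra.coe_top]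
    refine Set.eq_of_subset_of_ncard_le (Set.subset_univ _) ?_
    rw [Set.ncard_univ, ← Nat.card_coe_set_eq, hE]
    refine le_of_le_of_eq (Nat.pow_le_pow_right hp.out.pos (Nat.le_of_dvd ?_ hd)) hcT.symm
    exact Module.finrank_pos
  exact (AlgHom.range_eq_top _).1 hT

/-- A field generated by an element of order `q` has `p ^ a` elements. -/
theorem card_eq_of_generated (hpq : p ≠ q) (ha : a = orderOf (p : ZMod q)) {x : E} (hx : orderOf x = q)
    (hgen : Function.Surjective (aeval x : (ZMod p)[X] →ₐ[ZMod p] E)) : Nat.card E = p ^ a := by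
  haveI := charP_of_injective_algebraMap' (ZMod p) (A := E) p
  have hd := dvd_of_orderOf (card_eq_pow (p := p) E) ha hx
  have hfix : ∀ y : E, y ^ p ^ a = y := by
    intro y
    obtain ⟨h, rfl⟩ := hgen y
    have hxa : x ^ p ^ a = x := by
      have h1 : p ^ a ≡ 1 [MOD q] := by
        rw [← ZMod.natCast_eq_natCast_iff, Nat.cast_pow, Nat.cast_one, ha, pow_orderOf_eq_one]
      rw [← pow_mod_orderOf, hx, h1, Nat.mod_eq_of_lt hq.out.one_lt, pow_one]
    have := DFunLike.congr_fun (show (iterateFrobenius E p a).comp (aeval x).toRingHom =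
      (aeval x : (ZMod p)[X] →ₐ[ZMod p] E).toRingHom from Polynomial.ringHom_ext'
        (RingHom.ext_zmod _ _) (by simp [iterateFrobenius_def, hxa])) h
    simpa [iterateFrobenius_def] using this
  obtain ⟨g, hg⟩ := IsCyclic.exists_generator (α := Eˣ)
  have h1 : g ^ (p ^ a - 1) = 1 := by
    refine Units.ext (mul_left_cancel₀ g.ne_zero ?_)
    rw [Units.val_pow_eq_pow_val, ← pow_succ', Nat.sub_add_cancel (Nat.one_le_pow _ _ hp.out.pos),
      hfix, Units.val_one, mul_one]
  have h2 : Nat.card E - 1 ≤ p ^ a - 1 := by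
    rw [← Nat.card_units, ← orderOf_eq_card_of_forall_mem_zpowers hg]
    exact Nat.le_of_dvd (Nat.sub_pos_of_lt (Nat.one_lt_pow (pos hpq ha).ne' hp.out.one_lt))
      (orderOf_dvd_of_pow_eq_one h1)
  rw [card_eq_pow (p := p) E] at h2 ⊢
  refine le_antisymm (by have := Nat.one_le_pow a p hp.out.pos; omega)
    (Nat.pow_le_pow_right hp.out.pos (Nat.le_of_dvd Module.finrank_pos hd))

/-- The `ζ`-stable additive subgroups are trivial. -/
theorem addSubgroup_eq_top (ha : a = orderOf (p : ZMod q)) (hE : Nat.card E = p ^ a) {ζ : E}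
    (hζ : orderOf ζ = q) {U : AddSubgroup E} (hU : ∀ x ∈ U, ζ * x ∈ U) {e : E} (he : e ∈ U)
    (he0 : e ≠ 0) : U = ⊤ := by
  refine eq_top_iff.2 fun x _ => ?_
  obtain ⟨h, hh⟩ := aeval_surjective ha hE hζ (x * e⁻¹)
  suffices ∀ h : (ZMod p)[X], ∀ y ∈ U, aeval ζ h * y ∈ U by
    have := this h e he
    rwa [hh, inv_mul_cancel_right₀ he0] at this
  clear hh h
  intro h
  induction h using Polynomial.induction_on' with
  | add f g hf hg => intro y hy; rw [map_add, add_mul]; exact add_mem (hf y hy) (hg y hy)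
  | monomial n c =>
    have hn : ∀ n : ℕ, ∀ y ∈ U, ζ ^ n * y ∈ U := by
      intro n
      induction n with
      | zero => intro y hy; simpa using hy
      | succ n ih => intro y hy; rw [pow_succ', mul_assoc]; exact hU _ (ih y hy)
    intro y hy
    obtain ⟨k, rfl⟩ := ZMod.natCast_zmod_surjective (n := p) c
    rw [aeval_monomial, map_natCast, mul_assoc, ← nsmul_eq_mul]
    exact nsmul_mem (hn n y hy) k

/-- For `a = 2 * b` the conjugation of order two. -/
def sigma (p b : ℕ) [Fact p.Prime] (E : Type*) [Field E] [Algebra (ZMod p) E] : E →+* E :=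
  haveI := charP_of_injective_algebraMap' (ZMod p) (A := E) p
  haveI : ExpChar E p := ExpChar.prime Fact.out
  iterateFrobenius E p b

theorem sigma_apply (b : ℕ) (x : E) : sigma p b E x = x ^ p ^ b := by
  haveI := charP_of_injective_algebraMap' (ZMod p) (A := E) p
  haveI : ExpChar E p := ExpChar.prime Fact.out
  exact iterateFrobenius_def ..

theorem sigma_sigma {b : ℕ} (hE : Nat.card E = p ^ a) (hb : a = 2 * b) (x : E) :
    sigma p b E (sigma p b E x) = x := by
  haveI := Fintype.ofFinite E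
  rw [sigma_apply, sigma_apply, ← pow_mul, ← pow_add, ← two_mul, ← hb, ← hE, Nat.card_eq_fintype_card]
  exact FiniteField.pow_card x

theorem sigma_root {b : ℕ} (hpq : p ≠ q) (ha : a = orderOf (p : ZMod q)) (hb : a = 2 * b) {ζ : E}
    (hζ : orderOf ζ = q) : sigma p b E ζ * ζ = 1 := by
  rw [sigma_apply, ← pow_succ]
  refine orderOf_dvd_iff_pow_eq_one.1 ?_
  rw [hζ, ← ZMod.natCast_eq_zero_iff, Nat.cast_add, Nat.cast_pow, Nat.cast_one]
  have h : ((p : ZMod q) ^ b) * (p : ZMod q) ^ b = 1 := by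
    rw [← pow_add, ← two_mul, ← hb, ha, pow_orderOf_eq_one]
  rcases mul_self_eq_one_iff.1 h with h1 | h1
  · have := orderOf_dvd_of_pow_eq_one h1
    rw [← ha] at this
    have := pos hpq ha
    have := Nat.le_of_dvd (by omega) (‹a ∣ b›)
    omega
  · rw [h1, neg_add_cancel]

theorem ncard_le {n : ℕ} (hn : 1 < n) (c : E) : {x : E | x ^ n = c * x}.ncard ≤ n := by
  classical
  set f : E[X] := X ^ n - C c * X
  have hf : f.natDegree = n := by
    rw [natDegree_sub_eq_left_of_natDegree_lt] <;> rw [natDegree_X_pow]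
    exact lt_of_le_of_lt (natDegree_C_mul_le c X) (by simpa using hn)
  have hf0 : f ≠ 0 := fun h => by rw [h, natDegree_zero] at hf; omega
  calc {x : E | x ^ n = c * x}.ncard ≤ (f.roots.toFinset : Set E).ncard := by
        refine Set.ncard_le_ncard (fun x hx => ?_) (Finset.finite_toSet _)
        simp only [Finset.mem_coe, Multiset.mem_toFinset, mem_roots hf0]
        simpa [f, IsRoot, sub_eq_zero] using hx
    _ ≤ f.natDegree := by
        rw [Set.ncard_coe_finset]
        exact (Multiset.toFinset_card_le _).trans (card_roots' f)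
    _ = n := hf

/-- The trace `x ↦ x + σ x` and the skew elements. -/
theorem trace_facts {b : ℕ} (hE : Nat.card E = p ^ a) (hb : a = 2 * b) (hb0 : b ≠ 0) :
    let T : E →+ E := AddMonoidHom.id E + (sigma p b E).toAddMonoidHom
    Nat.card T.ker = p ^ b ∧ Nat.card T.range = p ^ b ∧
      (∀ y, sigma p b E y = y → ∃ x, x + sigma p b E x = y) ∧
      ∀ t, t + sigma p b E t = 0 → ∃ s, s - sigma p b E s = t := by
  intro T
  let D : E →+ E := AddMonoidHom.id E - (sigma p b E).toAddMonoidHom
  have h1 : 1 < p ^ b := Nat.one_lt_pow hb0 hp.out.one_lt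
  have hTa : ∀ x, T x = x + sigma p b E x := fun _ => rfl
  have hDa : ∀ x, D x = x - sigma p b E x := fun _ => rfl
  have hplus : ∀ S : AddSubgroup E, (∀ x ∈ S, sigma p b E x = x) → Nat.card S ≤ p ^ b := fun S hS => by
    refine le_trans (le_of_eq (Nat.card_coe_set_eq (S : Set E))) ((Set.ncard_le_ncard (fun x hx => ?_)
      (Set.toFinite _)).trans (ncard_le h1 (1 : E)))
    rw [Set.mem_ofPred_eq, one_mul, ← sigma_apply]; exact hS x hx
  have hminus : ∀ S : AddSubgroup E, (∀ x ∈ S, sigma p b E x = -x) → Nat.card S ≤ p ^ b := fun S hS => by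
    refine le_trans (le_of_eq (Nat.card_coe_set_eq (S : Set E))) ((Set.ncard_le_ncard (fun x hx => ?_)
      (Set.toFinite _)).trans (ncard_le h1 (-1 : E)))
    rw [Set.mem_ofPred_eq, neg_one_mul, ← sigma_apply]; exact hS x hx
  have hTk : Nat.card T.ker ≤ p ^ b := hminus _ fun x hx =>
    eq_neg_of_add_eq_zero_right (show x + sigma p b E x = 0 from (hTa x).symm.trans hx)
  have hTr : Nat.card T.range ≤ p ^ b := hplus _ fun x ⟨y, hy⟩ => by
    rw [← hy, hTa, map_add, sigma_sigma hE hb, add_comm]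
  have hDk : Nat.card D.ker ≤ p ^ b := hplus _ fun x hx =>
    (sub_eq_zero.1 (show x - sigma p b E x = 0 from (hDa x).symm.trans hx)).symm
  have hDr : Nat.card D.range ≤ p ^ b := hminus _ fun x ⟨y, hy⟩ => by
    rw [← hy, hDa, map_sub, sigma_sigma hE hb, neg_sub]
  have hmul : ∀ f : E →+ E, Nat.card f.range * Nat.card f.ker = p ^ b * p ^ b := fun f => by
    rw [← AddSubgroup.index_ker, AddSubgroup.index_mul_card, hE, hb, two_mul, pow_add]
  have heq : ∀ f : E →+ E, Nat.card f.ker ≤ p ^ b → Nat.card f.range ≤ p ^ b →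
      Nat.card f.ker = p ^ b ∧ Nat.card f.range = p ^ b := fun f h2 h3 => by
    have := hmul f
    constructor <;> nlinarith [Nat.card_pos (α := f.ker), Nat.card_pos (α := f.range)]
  obtain ⟨hTk', hTr'⟩ := heq T hTk hTr
  obtain ⟨hDk', hDr'⟩ := heq D hDk hDr
  refine ⟨hTk', hTr', fun y hy => ?_, fun t ht => ?_⟩
  · let S : AddSubgroup E :=
      { carrier := {x | sigma p b E x = x}
        zero_mem' := map_zero (sigma p b E)
        add_mem' := fun {x y} (hx : sigma p b E x = x) (hy : sigma p b E y = y) => by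
          show sigma p b E (x + y) = x + y
          rw [map_add, hx, hy]
        neg_mem' := fun {x} (hx : sigma p b E x = x) => by
          show sigma p b E (-x) = -x
          rw [map_neg, hx] }
    have hle : T.range ≤ S := fun x ⟨z, hz⟩ => by
      show sigma p b E x = x
      rw [← hz, hTa, map_add, sigma_sigma hE hb, add_comm]
    have hS : T.range = S := AddSubgroup.eq_of_le_of_card_ge hle (hTr' ▸ hplus S fun x hx => hx)
    obtain ⟨x, hx⟩ := (hS ▸ hy : y ∈ T.range)
    exact ⟨x, hx⟩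
  · have hle : D.range ≤ T.ker := fun x ⟨z, hz⟩ => by
      show T x = 0
      rw [hTa, ← hz, hDa, map_sub, sigma_sigma hE hb]; abel
    have hS : D.range = T.ker := AddSubgroup.eq_of_le_of_card_ge hle (by rw [hTk', hDr'])
    obtain ⟨s, hs⟩ := (hS ▸ ht : t ∈ D.range)
    exact ⟨s, hs⟩

/-- For odd `a > 1` some polynomial vanishes at `ζ` and not at `ζ⁻¹`. -/
theorem exists_separating (ha : a = orderOf (p : ZMod q)) (hE : Nat.card E = p ^ a) (hodd : a % 2 = 1)
    (ha1 : a ≠ 1) {ζ : E} (hζ : orderOf ζ = q) :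
    ∃ h : (ZMod p)[X], aeval ζ h = 0 ∧ aeval ζ⁻¹ h ≠ 0 := by
  by_contra hcon
  push Not at hcon
  set f : (ZMod p)[X] →ₐ[ZMod p] E := aeval ζ with hf
  have hs : Function.Surjective f.toRingHom := aeval_surjective ha hE hζ
  let τ' : E →+* E := f.toRingHom.liftOfSurjective hs
    ⟨(aeval ζ⁻¹ : (ZMod p)[X] →ₐ[ZMod p] E).toRingHom, fun h hh => hcon h hh⟩
  let τ : E →ₐ[ZMod p] E := AlgHom.mk τ' fun c => RingHom.congr_fun
    (RingHom.ext_zmod (τ'.comp (algebraMap (ZMod p) E)) (algebraMap (ZMod p) E)) c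
  have hτ : τ ζ = ζ⁻¹ := by
    have h := RingHom.liftOfRightInverse_comp_apply f.toRingHom _ (Function.rightInverse_surjInv hs)
      ⟨(aeval ζ⁻¹ : (ZMod p)[X] →ₐ[ZMod p] E).toRingHom, fun h hh => hcon h hh⟩ X
    simpa [τ, τ', hf] using h
  let e : E ≃ₐ[ZMod p] E := AlgEquiv.ofBijective τ (Finite.injective_iff_bijective.1 τ.toRingHom.injective)
  have he : e ζ = ζ⁻¹ := hτ
  have hfin : Module.finrank (ZMod p) E = a :=
    Nat.pow_right_injective hp.out.two_le ((card_eq_pow E).symm.trans hE)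
  have h1 : e ^ 2 = 1 := by
    ext y
    obtain ⟨h, rfl⟩ := aeval_surjective (p := p) ha hE hζ y
    rw [pow_two, AlgEquiv.mul_apply, ← aeval_algHom_apply e, ← aeval_algHom_apply e]
    simp [he]
  have h2 : e ≠ 1 := by
    intro h
    rw [h, AlgEquiv.one_apply] at he
    have hz0 : ζ ≠ 0 := by
      rintro rfl
      simp [orderOf_zero] at hζ
      exact hq.out.ne_zero hζ.symm
    have : ζ ^ 2 = 1 := by
      rw [pow_two]; nth_rw 2 [he]; exact mul_inv_cancel₀ hz0
    have hq2 : q = 2 := (Nat.prime_dvd_prime_iff_eq hq.out Nat.prime_two).1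
      (hζ ▸ orderOf_dvd_of_pow_eq_one this)
    subst hq2
    by_cases hp0 : (p : ZMod 2) = 1
    · exact ha1 (by rw [ha, hp0, orderOf_one])
    · have key : ∀ c : ZMod 2, c ≠ 1 → c = 0 := by
        intro c hc
        fin_cases c
        · rfl
        · exact absurd rfl hc
      have : (p : ZMod 2) = 0 := key _ hp0
      rw [this, orderOf_zero] at ha
      omega
  have h3 : orderOf e = 2 := orderOf_eq_prime h1 h2
  have h4 := orderOf_dvd_natCard e
  rw [h3, IsGalois.card_aut_eq_finrank, hfin] at h4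
  omega

end CfsgLib.UniversalSchmidt
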