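import Cfsg.Agent.Lib.PGroup.UniversalSchmidt.Cover
import Cfsg.Agent.Lib.PGroup.FixedPointFree
import Mathlib.GroupTheory.SemidirectProduct

/-!
# The semidirect product of a cover with a cyclic group of order `q ^ r`
-/

set_option autoImplicit false
set_option linter.unusedSectionVars false

open Subgroup
open scoped commutatorElement

namespace CfsgLib.UniversalSchmidt

/-- The homomorphism from a cyclic group given by an element. -/
def zmodHom {M : Type*} [Group M] {n : ℕ} (g : M) (h : g ^ n = 1) : Multiplicative (ZMod n) →* M :=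
  AddMonoidHom.toMultiplicativeLeft (ZMod.lift n ⟨zmultiplesHom (Additive M) (Additive.ofMul g), by
    rw [zmultiplesHom_apply, natCast_zsmul, ← ofMul_pow, h, ofMul_one]⟩)

theorem zmodHom_natCast {M : Type*} [Group M] {n : ℕ} (g : M) (h : g ^ n = 1) (k : ℕ) :
    zmodHom g h (Multiplicative.ofAdd (k : ZMod n)) = g ^ k := by
  show Additive.toMul (ZMod.lift n _ ((k : ℕ) : ZMod n)) = g ^ k
  rw [← Int.cast_natCast (R := ZMod n), ZMod.lift_coe]
  show Additive.toMul (((k : ℤ)) • Additive.ofMul g) = g ^ k
  rw [natCast_zsmul, ← ofMul_pow]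
  rfl

theorem exists_natCast {n : ℕ} [NeZero n] (c : Multiplicative (ZMod n)) :
    ∃ k : ℕ, c = Multiplicative.ofAdd (k : ZMod n) :=
  ⟨c.toAdd.val, by rw [ZMod.natCast_zmod_val]; rfl⟩

variable {p q a r : ℕ} [hp : Fact p.Prime] [hq : Fact q.Prime]
variable {E : Type*} [Field E] [Finite E] [Algebra (ZMod p) E] {ζ : E}
variable {P : Type*} [Group P] [Finite P]

theorem Cover.pow_qr (C : Cover q ζ P) (hr : 1 ≤ r) : C.α ^ q ^ r = 1 := by
  obtain ⟨m, hm⟩ := dvd_pow_self q (show r ≠ 0 by omega)
  rw [hm, pow_mul, C.pow_eq, one_pow]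

/-- The action of the cyclic group. -/
def Cover.action (C : Cover q ζ P) (hr : 1 ≤ r) : Multiplicative (ZMod (q ^ r)) →* MulAut P :=
  zmodHom C.α (C.pow_qr hr)

instance {N H : Type*} [Group N] [Group H] [Finite N] [Finite H] (φ : H →* MulAut N) :
    Finite (N ⋊[φ] H) := Finite.of_equiv _ SemidirectProduct.equivProd.symm

theorem Cover.card_group (C : Cover q ζ P) (hr : 1 ≤ r) :
    Nat.card (P ⋊[C.action hr] Multiplicative (ZMod (q ^ r))) = Nat.card P * q ^ r := by
  rw [SemidirectProduct.card, Nat.card_congr (Multiplicative.toAdd : Multiplicative (ZMod (q ^ r)) ≃ _),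
    Nat.card_zmod]

/-- The semidirect product is minimal non-`p`-nilpotent. -/
theorem Cover.minimal (C : Cover q ζ P) (hP : IsPGroup p P) (hpq : p ≠ q) (hr : 1 ≤ r)
    (ha : a = orderOf (p : ZMod q)) (hE : Nat.card E = p ^ a) (hζ : orderOf ζ = q) :
    ¬ Cfsg.HasNormalPComplement p (P ⋊[C.action hr] Multiplicative (ZMod (q ^ r))) ∧
      ∀ K : Subgroup (P ⋊[C.action hr] Multiplicative (ZMod (q ^ r))), K ≠ ⊤ →
        Cfsg.HasNormalPComplement p ↥K := by
  haveI : NeZero (q ^ r) := ⟨pow_ne_zero _ hq.out.ne_zero⟩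
  set φ := C.action hr
  set c₁ : Multiplicative (ZMod (q ^ r)) := Multiplicative.ofAdd ((1 : ℕ) : ZMod (q ^ r))
  have hφ1 : φ c₁ = C.α := (zmodHom_natCast _ _ 1).trans (pow_one _)
  constructor
  · rintro ⟨S, N, hNn, hNc⟩
    have hcard := hNc.card_mul_card
    rw [C.card_group hr, S.card_eq_multiplicity] at hcard
    -- the complement meets the kernel trivially and so centralizes it
    have hN : (Nat.card N).Coprime p := by
      rw [← hNc.index_eq_card]
      exact ((hp.out.coprime_iff_not_dvd).2 S.not_dvd_index).symm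
    haveI : (SemidirectProduct.inl (φ := φ)).range.Normal := by
      rw [SemidirectProduct.range_inl_eq_ker_rightHom]; infer_instance
    have hdis : Disjoint N (SemidirectProduct.inl (φ := φ)).range := by
      obtain ⟨j, hj⟩ := hP.exists_card_eq
      refine disjoint_of_coprime_natCard ?_
      rw [← Nat.card_congr (MonoidHom.ofInjective
        (SemidirectProduct.inl_injective (φ := φ))).toEquiv, hj]
      exact hN.pow_right j
    have hmem : SemidirectProduct.inr c₁ ∈ N := by
      have hcop : (orderOf (SemidirectProduct.inr (φ := φ) c₁)).Coprime N.index := by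
        refine Nat.Coprime.coprime_dvd_left ((orderOf_map_dvd _ _).trans (_root_.orderOf_dvd_natCard c₁)) ?_
        rw [Nat.card_congr (Multiplicative.toAdd : Multiplicative (ZMod (q ^ r)) ≃ _), Nat.card_zmod,
          hNc.symm.index_eq_card, S.card_eq_multiplicity]
        exact Nat.Coprime.pow _ _ ((Nat.coprime_primes hq.out hp.out).2 (Ne.symm hpq))
      refine (QuotientGroup.eq_one_iff _).1 (orderOf_eq_one_iff.1 (Nat.eq_one_of_dvd_coprimes hcop
        (orderOf_map_dvd (QuotientGroup.mk' N) _) (_root_.orderOf_dvd_natCard _)))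
    obtain ⟨u, hu⟩ := C.surj (Multiplicative.ofAdd (1 : E))
    have h1 := commute_of_normal_of_disjoint _ _ hNn inferInstance hdis _ _ hmem
      (MonoidHom.mem_range.2 ⟨u, rfl⟩)
    have h2 : C.α u = u := by
      apply SemidirectProduct.inl_injective (φ := φ)
      rw [← hφ1, SemidirectProduct.inl_aut, h1.eq, map_inv, mul_inv_cancel_right]
    have h3 := C.equiv u
    rw [h2, hu, toAdd_ofAdd, mul_one] at h3
    exact root_ne hζ (Multiplicative.ofAdd.injective h3).symm
  intro K hK
  suffices Group.IsNilpotent K from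
    CfsgLib.PGroup.hasNormalPComplement_of_isNilpotent (G := K) p
  by_cases hc : ∃ g ∈ K, ∃ k : ℕ, ¬ q ∣ k ∧ g.right = Multiplicative.ofAdd (k : ZMod (q ^ r))
  · obtain ⟨g, hg, k, hk, hgk⟩ := hc
    have hcop : k.Coprime (q ^ r) := Nat.Coprime.pow_right r ((hq.out.coprime_iff_not_dvd).2 hk).symm
    obtain ⟨i, hi⟩ : ∃ i : ℕ, (i : ZMod (q ^ r)) * k = 1 := by
      refine ⟨((ZMod.unitOfCoprime k hcop)⁻¹ : (ZMod (q ^ r))ˣ).val.val, ?_⟩
      rw [ZMod.natCast_zmod_val, ← ZMod.coe_unitOfCoprime k hcop, Units.inv_mul]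
    set g₁ := g ^ i
    have hg₁ : g₁ ∈ K := pow_mem hg i
    have hg₁r : g₁.right = c₁ := by
      show SemidirectProduct.rightHom (g ^ i) = c₁
      rw [map_pow, show SemidirectProduct.rightHom g = g.right from rfl, hgk, ← ofAdd_nsmul,
        nsmul_eq_mul, hi]
      simp [c₁]
    let U := K.comap (SemidirectProduct.inl (φ := φ))
    have hconj : ∀ v ∈ U, g₁.left * C.α v * g₁.left⁻¹ ∈ U := by
      intro v hv
      have h1 : g₁ * SemidirectProduct.inl v * g₁⁻¹ ∈ K := mul_mem (mul_mem hg₁ hv) (inv_mem hg₁)
      show SemidirectProduct.inl (g₁.left * C.α v * g₁.left⁻¹) ∈ K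
      convert h1 using 1
      rw [← SemidirectProduct.inl_left_mul_inr_right g₁, hg₁r, mul_inv_rev, ← hφ1, map_mul, map_mul,
        SemidirectProduct.inl_aut, map_inv]
      simp [mul_assoc]
    by_cases hU : U ≤ C.π.ker
    · -- abelian
      let f : K →* Multiplicative (ZMod (q ^ r)) := SemidirectProduct.rightHom.comp K.subtype
      have hf : f.ker ≤ center K := by
        intro z hz
        have hz' : (z : P ⋊[φ] Multiplicative (ZMod (q ^ r))) = SemidirectProduct.inl
            (z : P ⋊[φ] Multiplicative (ZMod (q ^ r))).left := by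
          ext
          · simp
          · simpa using (show (z : P ⋊[φ] Multiplicative (ZMod (q ^ r))).right = 1 from hz)
        have hzU : (z : P ⋊[φ] Multiplicative (ZMod (q ^ r))).left ∈ C.π.ker := hU (by
          show SemidirectProduct.inl _ ∈ K
          rw [← hz']; exact z.2)
        refine mem_center_iff.2 fun h => Subtype.ext ?_
        show (h : P ⋊[φ] Multiplicative (ZMod (q ^ r))) * z = z * h
        rw [hz']
        obtain ⟨m, hm⟩ := exists_natCast (h : P ⋊[φ] Multiplicative (ZMod (q ^ r))).right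
        ext
        · simp only [SemidirectProduct.mul_left, SemidirectProduct.left_inl, SemidirectProduct.right_inl,
            map_one, MulAut.one_apply]
          rw [hm, show φ (Multiplicative.ofAdd (m : ZMod (q ^ r))) = C.α ^ m from zmodHom_natCast _ _ m,
            C.fixed_pow m hzU]
          exact mem_center_iff.1 (C.central hzU) _
        · simp
      letI : CommGroup K := { (inferInstance : Group K) with
        mul_comm := fun x y => commutative_of_cyclic_center_quotient f hf x y }
      infer_instance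
    exfalso
    obtain ⟨e, he, he'⟩ := SetLike.not_le_iff_exists.1 hU
    let U' := U ⊔ C.π.ker
    have hU' : U' = ⊤ := by
      refine C.eq_top hP hpq ha hE hζ (fun x hx => ?_) (mem_sup_left he) he'
      haveI : C.π.ker.Normal := inferInstance
      obtain ⟨v, hv, z, hz, rfl⟩ := mem_sup_of_normal_right.1 hx
      rw [map_mul, C.fixed z hz]
      refine mul_mem ?_ (mem_sup_right hz)
      have h1 := hconj v hv
      have h2 : C.α v = g₁.left * C.α v * g₁.left⁻¹ * ⁅C.α v, g₁.left⁆ := by
        have h3 := mem_center_iff.1 (C.central (C.commutator_mem_ker (C.α v) g₁.left))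
        rw [h3]
        simp only [commutatorElement_def]; group
      rw [h2]
      exact mul_mem (mem_sup_left h1) (mem_sup_right (C.commutator_mem_ker _ _))
    have hcomm : commutator P ≤ U := by
      rw [_root_.commutator_def, commutator_le]
      intro x _ y _
      obtain ⟨v, hv, z, hz, rfl⟩ := mem_sup_of_normal_right.1 (hU' ▸ mem_top x : x ∈ U')
      obtain ⟨w, hw, z', hz', rfl⟩ := mem_sup_of_normal_right.1 (hU' ▸ mem_top y : y ∈ U')
      have : ⁅v * z, w * z'⁆ = ⁅v, w⁆ := by
        have e1 : ∀ g, ⁅g, z'⁆ = 1 := fun g =>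
          commutatorElement_eq_one_iff_mul_comm.2 (mem_center_iff.1 (C.central hz') g)
        rw [C.commutator_mul, e1, mul_one]
        have h4 := mem_center_iff.1 (C.central hz)
        simp only [commutatorElement_def, mul_inv_rev, mul_assoc]
        rw [← mul_assoc z w, ← h4 w, mul_assoc, mul_inv_cancel_left]
      rw [this, commutatorElement_def]
      exact mul_mem (mul_mem (mul_mem hv hw) (inv_mem hv)) (inv_mem hw)
    have hUtop : U = ⊤ := top_le_iff.1 (hU' ▸ sup_le le_rfl ((C.ker_le_commutator hP hpq).trans hcomm))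
    refine hK (eq_top_iff.2 fun x _ => ?_)
    obtain ⟨m, hm⟩ := exists_natCast x.right
    have hx : x = SemidirectProduct.inl (x * (g₁ ^ m)⁻¹).left * g₁ ^ m := by
      have h5 : (x * (g₁ ^ m)⁻¹).right = 1 := by
        show SemidirectProduct.rightHom (x * (g₁ ^ m)⁻¹) = 1
        rw [map_mul, map_inv, map_pow, show SemidirectProduct.rightHom g₁ = g₁.right from rfl, hg₁r,
          show SemidirectProduct.rightHom x = x.right from rfl, hm, mul_inv_eq_one]
        simp [c₁, ← ofAdd_nsmul]
      have : SemidirectProduct.inl (x * (g₁ ^ m)⁻¹).left = x * (g₁ ^ m)⁻¹ :=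
        SemidirectProduct.ext (by simp) (by rw [SemidirectProduct.right_inl, h5])
      rw [this, inv_mul_cancel_right]
    rw [hx]
    have hmemU : (x * (g₁ ^ m)⁻¹).left ∈ U := by rw [hUtop]; exact mem_top _
    exact mul_mem hmemU (pow_mem hg₁ m)
  · push Not at hc
    have hact : ∀ g ∈ K, φ g.right = 1 := by
      intro g hg
      obtain ⟨k, hk⟩ := exists_natCast g.right
      obtain ⟨m, rfl⟩ : q ∣ k := by
        by_contra h
        exact hc g hg k h hk
      rw [hk, show φ _ = C.α ^ (q * m) from zmodHom_natCast _ _ _, pow_mul, C.pow_eq, one_pow]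
    let f : K →* P × Multiplicative (ZMod (q ^ r)) := MonoidHom.mk'
      (fun g => ((g : P ⋊[φ] Multiplicative (ZMod (q ^ r))).left,
        (g : P ⋊[φ] Multiplicative (ZMod (q ^ r))).right))
      fun g h => by
        ext
        · simp [hact _ g.2]
        · simp
    have hf : Function.Injective f := fun g h e =>
      Subtype.ext (SemidirectProduct.ext (congrArg Prod.fst e) (congrArg Prod.snd e))
    haveI := hP.isNilpotent
    exact Group.nilpotent_of_mulEquiv (MonoidHom.ofInjective hf).symm
where
  root_ne {ζ : E} (hζ : orderOf ζ = q) : ζ ≠ 1 := fun h => by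
    rw [h, orderOf_one] at hζ
    exact hq.out.one_lt.ne hζ

end CfsgLib.UniversalSchmidt
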