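import Cfsg.Agent.Lib.PGroup.UniversalSchmidt.Cover
import Mathlib.Algebra.Group.MinimalAxioms

/-!
# The extremal cover

For odd `a` it is the additive group of the field, for `a = 2 * b` the group of the pairs `(x, t)`
with `t + σ t = x * σ x`.
-/

set_option autoImplicit false
set_option linter.unusedSectionVars false

open Polynomial Subgroup
open scoped commutatorElement

namespace CfsgLib.UniversalSchmidt

variable {E : Type} [Field E]

/-- An involutive ring endomorphism. -/
abbrev Invo (E : Type) [Field E] := {σ : E →+* E // ∀ x, σ (σ x) = x}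

/-- The pairs `(x, t)` with `t + σ t = x * σ x`. -/
@[ext]
structure Herm (S : Invo E) where
  x : E
  t : E
  rel : t + S.1 t = x * S.1 x

namespace Herm

variable {S : Invo E}

instance : One (Herm S) := ⟨⟨0, 0, by simp⟩⟩

instance : Mul (Herm S) := ⟨fun u v => ⟨u.x + v.x, u.t + v.t + S.1 u.x * v.x, by
  rw [map_add, map_add, map_add, map_mul, S.2]
  linear_combination u.rel + v.rel⟩⟩

instance : Inv (Herm S) := ⟨fun u => ⟨-u.x, S.1 u.t, by
  rw [S.2, map_neg, neg_mul_neg]
  linear_combination u.rel⟩⟩

@[simp] theorem one_x : (1 : Herm S).x = 0 := rfl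
@[simp] theorem one_t : (1 : Herm S).t = 0 := rfl
@[simp] theorem mul_x (u v : Herm S) : (u * v).x = u.x + v.x := rfl
@[simp] theorem mul_t (u v : Herm S) : (u * v).t = u.t + v.t + S.1 u.x * v.x := rfl
@[simp] theorem inv_x (u : Herm S) : u⁻¹.x = -u.x := rfl
@[simp] theorem inv_t (u : Herm S) : u⁻¹.t = S.1 u.t := rfl

instance : Group (Herm S) := Group.ofLeftAxioms
  (fun u v w => by ext <;> simp <;> ring)
  (fun u => by ext <;> simp)
  (fun u => by
    ext
    · simp
    · simp only [mul_t, inv_t, inv_x, one_t, map_neg]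
      linear_combination u.rel)

instance [Finite E] : Finite (Herm S) :=
  Finite.of_injective (fun u => (u.x, u.t)) fun u v h => Herm.ext (congrArg Prod.fst h) (congrArg Prod.snd h)

theorem commutator_x (u v : Herm S) : ⁅u, v⁆.x = 0 := by
  simp [commutatorElement_def]

theorem commutator_t (u v : Herm S) : ⁅u, v⁆.t = S.1 u.x * v.x - S.1 v.x * u.x := by
  simp only [commutatorElement_def, mul_t, inv_t, mul_x, inv_x, map_add, map_neg]
  linear_combination u.rel + v.rel

/-- The projection. -/
def π (S : Invo E) : Herm S →* Multiplicative E where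
  toFun u := Multiplicative.ofAdd u.x
  map_one' := rfl
  map_mul' _ _ := rfl

theorem π_eq_one {u : Herm S} : π S u = 1 ↔ u.x = 0 := Iff.rfl

/-- Multiplication by `ζ` with `σ ζ * ζ = 1`. -/
def scale (ζ : E) (hζ : S.1 ζ * ζ = 1) : MulAut (Herm S) where
  toFun u := ⟨ζ * u.x, u.t, by rw [map_mul]; linear_combination u.rel - u.x * S.1 u.x * hζ⟩
  invFun u := ⟨S.1 ζ * u.x, u.t, by
    rw [map_mul, S.2]; linear_combination u.rel - u.x * S.1 u.x * hζ⟩
  left_inv u := by
    ext
    · show S.1 ζ * (ζ * u.x) = u.x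
      rw [← mul_assoc, hζ, one_mul]
    · rfl
  right_inv u := by
    ext
    · show ζ * (S.1 ζ * u.x) = u.x
      rw [← mul_assoc, mul_comm ζ, hζ, one_mul]
    · rfl
  map_mul' u v := by
    ext
    · show ζ * (u.x + v.x) = ζ * u.x + ζ * v.x
      ring
    · show u.t + v.t + S.1 u.x * v.x = u.t + v.t + S.1 (ζ * u.x) * (ζ * v.x)
      rw [map_mul]; linear_combination -(S.1 u.x * v.x) * hζ

theorem scale_x (ζ : E) (hζ : S.1 ζ * ζ = 1) (u : Herm S) : (scale ζ hζ u).x = ζ * u.x := rfl
theorem scale_t (ζ : E) (hζ : S.1 ζ * ζ = 1) (u : Herm S) : (scale ζ hζ u).t = u.t := rfl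

end Herm

variable {p q a : ℕ} [hp : Fact p.Prime] [hq : Fact q.Prime] [Algebra (ZMod p) E] [Finite E]

theorem root_ne_one {ζ : E} (hζ : orderOf ζ = q) : ζ ≠ 1 := fun h => by
  rw [h, orderOf_one] at hζ
  exact hq.out.one_lt.ne hζ

/-- The extremal cover exists. -/
theorem exists_cover (hpq : p ≠ q) (ha : a = orderOf (p : ZMod q)) (hE : Nat.card E = p ^ a) {ζ : E}
    (hζ : orderOf ζ = q) :
    ∃ (P₀ : Type) (_ : Group P₀) (_ : Finite P₀),
      Nat.card P₀ = p ^ (if a % 2 = 1 then a else 3 * a / 2) ∧ Nonempty (Cover q ζ P₀) := by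
  have hz0 : ζ ≠ 0 := by
    rintro rfl
    simp [orderOf_zero] at hζ
    exact hq.out.ne_zero hζ.symm
  have hζ1 : ζ - 1 ≠ 0 := sub_ne_zero.2 (root_ne_one hζ)
  have hq1 : ζ ^ q = 1 := hζ ▸ pow_orderOf_eq_one ζ
  split_ifs with hpar
  · refine ⟨Multiplicative E, inferInstance, inferInstance,
      by rw [Nat.card_congr (Multiplicative.toAdd : Multiplicative E ≃ E), hE], ⟨?_⟩⟩
    let m : MulAut (Multiplicative E) :=
      { toFun := fun u => Multiplicative.ofAdd (ζ * u.toAdd)
        invFun := fun u => Multiplicative.ofAdd (ζ⁻¹ * u.toAdd)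
        left_inv := fun u => by simp [← mul_assoc, inv_mul_cancel₀ hz0]
        right_inv := fun u => by simp [← mul_assoc, mul_inv_cancel₀ hz0]
        map_mul' := fun u v => by simp [mul_add] }
    have hm : ∀ (k : ℕ) (u : Multiplicative E), (m ^ k) u = Multiplicative.ofAdd (ζ ^ k * u.toAdd) := by
      intro k u
      induction k with
      | zero => simp
      | succ k ih =>
        rw [pow_succ', MulAut.mul_apply, ih]
        show Multiplicative.ofAdd (ζ * (ζ ^ k * u.toAdd)) = _
        rw [pow_succ', mul_assoc]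
    exact
      { α := m
        π := MonoidHom.id _
        surj := Function.surjective_id
        equiv := fun g => rfl
        central := by simp
        fixed := fun z hz => by
          rw [show z = 1 from hz, map_one]
        pow_eq := MulEquiv.ext fun u => by rw [hm, hq1, one_mul]; rfl
        gen := by
          refine eq_top_iff.2 fun u _ => subset_closure
            ⟨Multiplicative.ofAdd (u.toAdd / (ζ - 1)), ?_⟩
          apply Multiplicative.toAdd.injective
          show -(u.toAdd / (ζ - 1)) + ζ * (u.toAdd / (ζ - 1)) = u.toAdd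
          field_simp
          ring }
  · obtain ⟨b, hb⟩ : ∃ b, a = 2 * b := ⟨a / 2, by omega⟩
    have hb0 : b ≠ 0 := by have := pos hpq ha; omega
    let S : Invo E := ⟨sigma p b E, sigma_sigma hE hb⟩
    have hσ : S.1 ζ * ζ = 1 := sigma_root hpq ha hb hζ
    obtain ⟨hTk, -, hsur, hskew⟩ := trace_facts (E := E) hE hb hb0
    have hπ : Function.Surjective (Herm.π S) := by
      intro u
      have hfix : S.1 (u.toAdd * S.1 u.toAdd) = u.toAdd * S.1 u.toAdd := by
        rw [map_mul, S.2, mul_comm]
      obtain ⟨t, ht⟩ := hsur _ hfix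
      exact ⟨⟨u.toAdd, t, ht⟩, rfl⟩
    let m : MulAut (Herm S) := Herm.scale ζ hσ
    have hcentral : (Herm.π S).ker ≤ center (Herm S) := fun z (hz : z.x = 0) =>
      mem_center_iff.2 fun g => by ext <;> simp [hz, add_comm]
    have hfixed : ∀ z ∈ (Herm.π S).ker, m z = z := fun z (hz : z.x = 0) => by
      ext
      · show ζ * z.x = z.x
        rw [hz, mul_zero]
      · rfl
    refine ⟨Herm S, inferInstance, inferInstance, ?_, ⟨
      { α := m
        π := Herm.π S
        surj := hπ
        equiv := fun g => rfl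
        central := hcentral
        fixed := hfixed
        pow_eq := ?_
        gen := ?_ }⟩⟩
    · have hk : Nat.card (Herm.π S).ker = p ^ b := by
        rw [← hTk]
        refine Nat.card_congr
          { toFun := fun u => ⟨(u : Herm S).t, ?_⟩
            invFun := fun t => ⟨⟨0, (t : E), ?_⟩, rfl⟩
            left_inv := fun u => Subtype.ext (Herm.ext (show (0 : E) = (u : Herm S).x from u.2.symm) rfl)
            right_inv := fun t => rfl }
        · show (u : Herm S).t + S.1 (u : Herm S).t = 0
          rw [(u : Herm S).rel, show (u : Herm S).x = 0 from u.2, zero_mul]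
        · show (t : E) + S.1 (t : E) = 0 * S.1 0
          rw [zero_mul]; exact t.2
      rw [← (Herm.π S).ker.index_mul_card, Subgroup.index_ker, MonoidHom.range_eq_top.2 hπ,
        Subgroup.card_top, Nat.card_congr (Multiplicative.toAdd : Multiplicative E ≃ E), hE, hk, ← pow_add]
      congr 1; omega
    · refine MulEquiv.ext fun u => ?_
      have : ∀ k : ℕ, ((m ^ k) u).x = ζ ^ k * u.x ∧ ((m ^ k) u).t = u.t := by
        intro k
        induction k with
        | zero => simp
        | succ k ih =>
          rw [pow_succ', MulAut.mul_apply]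
          exact ⟨by rw [Herm.scale_x, ih.1, pow_succ', mul_assoc], by rw [Herm.scale_t, ih.2]⟩
      ext
      · rw [(this q).1, hq1, one_mul]; rfl
      · rw [(this q).2]; rfl
    · set T := closure (Set.range fun g : Herm S => g⁻¹ * m g) with hT
      have hproj : ∀ e : E, ∃ w ∈ T, w.x = e := by
        intro e
        obtain ⟨g, hg⟩ := hπ (Multiplicative.ofAdd (e / (ζ - 1)))
        refine ⟨g⁻¹ * m g, subset_closure ⟨g, rfl⟩, ?_⟩
        have hg' : g.x = e / (ζ - 1) := hg
        show -g.x + ζ * g.x = e
        rw [hg']; field_simp; ring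
      refine eq_top_iff.2 fun u _ => ?_
      obtain ⟨w, hw, hwx⟩ := hproj u.x
      have hk : (w⁻¹ * u).x = 0 := by simp [hwx]
      obtain ⟨s, hs⟩ := hskew (w⁻¹ * u).t (by
        show (w⁻¹ * u).t + S.1 (w⁻¹ * u).t = 0
        rw [(w⁻¹ * u).rel, hk, zero_mul])
      obtain ⟨c, hc, hcx⟩ := hproj 1
      obtain ⟨d, hd, hdx⟩ := hproj s
      have hcd : ⁅c, d⁆ = w⁻¹ * u := Herm.ext (by rw [Herm.commutator_x, hk]) (by
        rw [Herm.commutator_t, hcx, hdx, map_one, one_mul, mul_one]
        exact hs)
      have : w⁻¹ * u ∈ T := hcd ▸ (by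
        rw [commutatorElement_def]
        exact mul_mem (mul_mem (mul_mem hc hd) (inv_mem hc)) (inv_mem hd))
      simpa using mul_mem hw this

end CfsgLib.UniversalSchmidt
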