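import Cfsg.Agent.Lib.PGroup.UniversalSchmidt.Cover
import Cfsg.Agent.Lib.PGroup.SchmidtKernel.Core
import Cfsg.Agent.Lib.Coprime.MinimalNonNilpotent
import Cfsg.Agent.S0132
import Mathlib.Algebra.Module.ZMod

/-!
# A minimal non-`p`-nilpotent group as a cover
-/

set_option autoImplicit false
set_option linter.unusedSectionVars false

open Polynomial Subgroup
open scoped commutatorElement

namespace CfsgLib.UniversalSchmidt

universe u

variable {p q a r : ℕ} [hp : Fact p.Prime] [hq : Fact q.Prime]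

theorem natCard_sup_dvd {X : Type u} [Group X] [Finite X] (P K : Subgroup X) [P.Normal] :
    Nat.card ↥(P ⊔ K) ∣ Nat.card P * Nat.card K := by
  have e1 := Subgroup.relIndex_sup_right K P
  rw [← Subgroup.card_mul_index (P.subgroupOf (P ⊔ K)),
    Nat.card_congr (Subgroup.subgroupOfEquivOfLe (le_sup_left : P ≤ P ⊔ K)).toEquiv]
  refine Nat.mul_dvd_mul_left _ ?_
  show P.relIndex (P ⊔ K) ∣ _
  rw [sup_comm P K, e1]
  exact Subgroup.relIndex_dvd_card _ _

/-- An irreducible endomorphism of order `q` is multiplication by a root of unity of the field. -/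
theorem exists_module_equiv {V : Type u} [AddCommGroup V] [Finite V] (hexp : ∀ v : V, p • v = 0)
    (f : V →+ V) (hfq : ∀ w, (⇑f)^[q] w = w)
    (hirr : ∀ W : AddSubgroup V, (∀ w ∈ W, f w ∈ W) → ∀ w ∈ W, w ≠ 0 → W = ⊤) (hne : ∃ v, f v ≠ v)
    (hpq : p ≠ q) (ha : a = orderOf (p : ZMod q)) {E : Type} [Field E] [Finite E] [Algebra (ZMod p) E]
    (hE : Nat.card E = p ^ a) :
    ∃ ω : E, orderOf ω = q ∧
      ∃ θ : V →+ E, Function.Bijective θ ∧ ∀ w, θ (f w) = ω * θ w := by
  haveI : Module (ZMod p) V := AddCommGroup.zmodModule hexp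
  let A : Module.End (ZMod p) V := f.toZModLinearMap p
  have hA : ∀ w, A w = f w := fun _ => rfl
  have hAq : A ^ q = 1 := LinearMap.ext fun w => by
    rw [Module.End.pow_apply]
    exact hfq w
  obtain ⟨v, hv⟩ := hne
  have hv0 : v ≠ 0 := fun h => hv (by rw [h, map_zero])
  let ev : (ZMod p)[X] →+ V := AddMonoidHom.mk' (fun h => (aeval A h) v) fun g h => by simp
  have hev : ∀ g h : (ZMod p)[X], ev (g * h) = (aeval A g) (ev h) := fun g h => by
    show (aeval A (g * h)) v = _
    rw [map_mul]; rfl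
  have hev1 : ev 1 = v := by simp [ev]
  have hevX : ∀ h, ev (X * h) = f (ev h) := fun h => by rw [hev, aeval_X]; rfl
  have hsurj : Function.Surjective ev := by
    rw [← AddMonoidHom.range_eq_top]
    exact hirr _ (fun w ⟨h, hh⟩ => ⟨X * h, by rw [hevX, hh]⟩) v ⟨1, hev1⟩ hv0
  let I : Ideal (ZMod p)[X] :=
    { carrier := {h | ev h = 0}
      zero_mem' := map_zero ev
      add_mem' := fun {g h} (hg : ev g = 0) (hh : ev h = 0) => show ev (g + h) = 0 by
        rw [map_add, hg, hh, add_zero]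
      smul_mem' := fun c h (hh : ev h = 0) => show ev (c * h) = 0 by rw [hev, hh, map_zero] }
  have hI : ∀ h, h ∈ I ↔ ev h = 0 := fun _ => Iff.rfl
  haveI : I.IsMaximal := by
    refine Ideal.isMaximal_iff.2 ⟨fun h1 => hv0 (hev1.symm.trans h1), fun J x hIJ hxI hxJ => ?_⟩
    let W : AddSubgroup V := (ev.comp (AddMonoidHom.mulRight x)).range
    have hW : W = ⊤ := hirr W (fun w ⟨h, hh⟩ => ⟨X * h, by
        show ev (X * h * x) = f w
        rw [mul_assoc, hevX, ← hh]; rfl⟩)
      (ev x) ⟨1, by show ev (1 * x) = ev x; rw [one_mul]⟩ hxI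
    obtain ⟨g, hg⟩ := (hW ▸ AddSubgroup.mem_top v : v ∈ W)
    have h1 : g * x - 1 ∈ J := hIJ (show ev (g * x - 1) = 0 by
      rw [map_sub, hev1, show ev (g * x) = v from hg, sub_self])
    simpa using J.sub_mem (J.mul_mem_left g hxJ) h1
  letI : Field ((ZMod p)[X] ⧸ I) := Ideal.Quotient.field I
  haveI : Finite ((ZMod p)[X] ⧸ I) := by
    refine Finite.of_surjective (fun w => Ideal.Quotient.mk I (Function.surjInv hsurj w)) fun k => ?_
    obtain ⟨h, rfl⟩ := Ideal.Quotient.mk_surjective k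
    refine ⟨ev h, (Ideal.Quotient.mk_eq_mk_iff_sub_mem _ _).2 ?_⟩
    rw [hI, map_sub, Function.surjInv_eq hsurj, sub_self]
  set x : (ZMod p)[X] ⧸ I := Ideal.Quotient.mk I X with hx
  have hxq : orderOf x = q := by
    refine orderOf_eq_prime ?_ ?_
    · rw [hx, ← map_pow, ← map_one (Ideal.Quotient.mk I), Ideal.Quotient.mk_eq_mk_iff_sub_mem, hI,
        map_sub, sub_eq_zero, hev1]
      show (aeval A (X ^ q)) v = v
      rw [map_pow, aeval_X, hAq]; rfl
    · intro h
      rw [hx, ← map_one (Ideal.Quotient.mk I), Ideal.Quotient.mk_eq_mk_iff_sub_mem, hI, map_sub,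
        sub_eq_zero] at h
      have h2 := hevX 1
      rw [mul_one, h, hev1] at h2
      exact hv h2.symm
  have hmk : ∀ h : (ZMod p)[X], aeval x h = Ideal.Quotient.mk I h := fun h => by
    rw [hx, show Ideal.Quotient.mk I X = Ideal.Quotient.mkₐ (ZMod p) I X from rfl,
      aeval_algHom_apply, aeval_X_left_apply]
    rfl
  have hK := card_eq_of_generated hpq ha hxq (fun k => by
    obtain ⟨h, rfl⟩ := Ideal.Quotient.mk_surjective k
    exact ⟨h, hmk h⟩)
  let e : ((ZMod p)[X] ⧸ I) ≃ₐ[ZMod p] E :=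
    (GaloisField.algEquivGaloisField p a hK).trans (GaloisField.algEquivGaloisField p a hE).symm
  set ω : E := e x with hω
  have hωq : orderOf ω = q := by
    rw [hω, ← hxq]
    exact orderOf_injective e.toAlgHom.toRingHom.toMonoidHom e.injective x
  have hevker : ∀ h, aeval ω h = (0 : E) ↔ ev h = 0 := by
    intro h
    rw [hω, aeval_algHom_apply e, hmk, map_eq_zero_iff e e.injective, Ideal.Quotient.eq_zero_iff_mem,
      hI]
  let g : (ZMod p)[X] →+ E := (aeval ω : (ZMod p)[X] →ₐ[ZMod p] E).toLinearMap.toAddMonoidHom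
  let θ : V →+ E := ev.liftOfSurjective hsurj ⟨g, fun h hh => (hevker h).2 hh⟩
  have hθ : ∀ h, θ (ev h) = aeval ω h := fun h =>
    AddMonoidHom.liftOfRightInverse_comp_apply ev _ (Function.rightInverse_surjInv hsurj)
      ⟨g, fun h hh => (hevker h).2 hh⟩ h
  refine ⟨ω, hωq, θ, ⟨(injective_iff_map_eq_zero θ).2 fun w hw => ?_, fun y => ?_⟩, fun w => ?_⟩
  · obtain ⟨h, rfl⟩ := hsurj w
    exact (hevker h).1 ((hθ h).symm.trans hw)
  · obtain ⟨h, hh⟩ := aeval_surjective (p := p) ha hE hωq y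
    exact ⟨ev h, (hθ h).trans hh⟩
  · obtain ⟨h, rfl⟩ := hsurj w
    rw [← hevX, hθ, hθ, map_mul, aeval_X]

/-- Schmidt data of an automorphism turn into a cover after a suitable power. -/
theorem exists_cover_of_data {P : Type u} [Group P] [Finite P] (hP : IsPGroup p P) (hpq : p ≠ q)
    (ha : a = orderOf (p : ZMod q)) {E : Type} [Field E] [Finite E] [Algebra (ZMod p) E]
    (hE : Nat.card E = p ^ a) {ζ : E} (hζ : orderOf ζ = q) (α : MulAut P)
    (hD : ∀ j : ℕ, ¬ q ∣ j → ∃ D : CfsgLib.SchmidtKernel.Data p P, D.α = α ^ j ∧ D.r = q) :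
    ∃ j : ℕ, ¬ q ∣ j ∧ ∃ C : Cover q ζ P, C.α = α ^ j := by
  obtain ⟨D, hDα, hDr⟩ := hD 1 (fun h => hq.out.ne_one (Nat.dvd_one.1 h))
  rw [pow_one] at hDα
  have hαq : α ^ q = 1 := by rw [← hDα, ← hDr, D.pow_eq]
  -- the module
  let cl : P → Additive (Abelianization P) := fun g => Additive.ofMul (Abelianization.of g)
  have hcl : ∀ g h, cl (g * h) = cl g + cl h := fun g h => by simp [cl]
  have hcl0 : ∀ g, cl g = 0 ↔ g ∈ commutator P := fun g => by
    rw [← Abelianization.ker_of]; exact Iff.rfl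
  have hclinv : ∀ g, cl g⁻¹ = - cl g := fun g => by simp [cl]
  have hcls : ∀ v, ∃ g, cl g = v := fun v => by
    obtain ⟨g, hg⟩ := QuotientGroup.mk_surjective (show P ⧸ commutator P from v.toMul)
    exact ⟨g, (congrArg Additive.ofMul (show Abelianization.of g = v.toMul from hg)).trans (ofMul_toMul v)⟩
  have hexp : ∀ v : Additive (Abelianization P), p • v = 0 := by
    intro v
    obtain ⟨g, rfl⟩ := hcls v
    show Additive.ofMul (Abelianization.of g ^ p) = 0
    rw [← map_pow]
    exact (hcl0 _).2 (D.pow_mem hP g)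
  let f : Additive (Abelianization P) →+ Additive (Abelianization P) :=
    MonoidHom.toAdditive (Abelianization.map α.toMonoidHom)
  have hA : ∀ g, f (cl g) = cl (α g) := fun g => rfl
  have hfq : ∀ w, (⇑f)^[q] w = w := by
    have : ∀ (k : ℕ) g, (⇑f)^[k] (cl g) = cl ((α ^ k) g) := by
      intro k g
      induction k with
      | zero => simp
      | succ k ih => rw [Function.iterate_succ_apply', ih, hA, pow_succ', MulAut.mul_apply]
    intro w
    obtain ⟨g, rfl⟩ := hcls w
    rw [this, hαq]; rfl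
  have hirr : ∀ W : AddSubgroup (Additive (Abelianization P)), (∀ v ∈ W, f v ∈ W) →
      ∀ v ∈ W, v ≠ 0 → W = ⊤ := by
    intro W hW v hv hv0
    let U : Subgroup P :=
      { carrier := {g | cl g ∈ W}
        one_mem' := show cl 1 ∈ W from zero_mem W
        mul_mem' := fun {x y} (hx : cl x ∈ W) (hy : cl y ∈ W) => show cl (x * y) ∈ W by
          rw [hcl]; exact add_mem hx hy
        inv_mem' := fun {x} (hx : cl x ∈ W) => show cl x⁻¹ ∈ W by rw [hclinv]; exact neg_mem hx }
    have hU : U = ⊤ := by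
      by_contra hne
      obtain ⟨g, rfl⟩ := hcls v
      exact hv0 ((hcl0 g).2 (D.invariant_le hP
        (fun u (hu : cl u ∈ W) => show cl (D.α u) ∈ W by rw [hDα, ← hA]; exact hW _ hu) hne hv))
    refine eq_top_iff.2 fun w _ => ?_
    obtain ⟨g, rfl⟩ := hcls w
    exact (hU ▸ mem_top g : g ∈ U)
  have hne : ∃ v, f v ≠ v := by
    by_contra hcon
    push Not at hcon
    refine D.commutator_ne_top hP (top_le_iff.1 ?_)
    rw [← D.closure_eq_top hP, closure_le]
    rintro _ ⟨g, rfl⟩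
    refine (hcl0 _).1 ?_
    rw [hcl, hclinv, hDα, ← hA, hcon, neg_add_cancel]
  obtain ⟨ω, hωq, θ, hθb, hθ⟩ := exists_module_equiv hexp f hfq hirr hne hpq ha hE
  let π : P →* Multiplicative E := MonoidHom.mk' (fun g => Multiplicative.ofAdd (θ (cl g))) fun g h => by
    rw [hcl, map_add]; rfl
  have hπequiv : ∀ g, π (α g) = Multiplicative.ofAdd (ω * (π g).toAdd) := fun g => by
    show Multiplicative.ofAdd (θ (cl (α g))) = Multiplicative.ofAdd (ω * θ (cl g))
    rw [← hA, hθ]
  have hπs : Function.Surjective π := fun u => by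
    obtain ⟨w, hw⟩ := hθb.2 u.toAdd
    obtain ⟨g, rfl⟩ := hcls w
    exact ⟨g, show Multiplicative.ofAdd (θ (cl g)) = u by rw [hw, ofAdd_toAdd]⟩
  have hπker : π.ker = commutator P := by
    ext g
    rw [MonoidHom.mem_ker, ← hcl0]
    show Multiplicative.ofAdd (θ (cl g)) = 1 ↔ _
    rw [ofAdd_eq_one, map_eq_zero_iff θ hθb.1]
  -- choose the power
  obtain ⟨j, -, hj⟩ := (hωq ▸ IsPrimitiveRoot.orderOf ω).eq_pow_of_pow_eq_one
    (hζ ▸ pow_orderOf_eq_one ζ : ζ ^ q = 1)
  have hjq : ¬ q ∣ j := by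
    intro hd
    rw [← hωq] at hd
    rw [orderOf_dvd_iff_pow_eq_one.1 hd] at hj
    rw [← hj, orderOf_one] at hζ
    exact hq.out.one_lt.ne hζ
  obtain ⟨Dj, hDj, hDjr⟩ := hD j hjq
  have hαk : ∀ (k : ℕ) g, π ((α ^ k) g) = Multiplicative.ofAdd (ω ^ k * (π g).toAdd) := by
    intro k g
    induction k with
    | zero => simp
    | succ k ih =>
      rw [pow_succ', MulAut.mul_apply, hπequiv, ih, toAdd_ofAdd, pow_succ', mul_assoc]
  refine ⟨j, hjq,
    { α := α ^ j
      π := π
      surj := hπs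
      equiv := fun g => by rw [hαk, hj]
      central := hπker ▸ D.commutator_le_center hP
      fixed := fun z hz => by
        rw [← hDj]
        exact (Dj.fixed_iff hP z).2 (hπker ▸ hz)
      pow_eq := by rw [← hDj, ← hDjr, Dj.pow_eq]
      gen := by rw [← hDj]; exact Dj.closure_eq_top hP }, rfl⟩

/-- The structure of a minimal non-`p`-nilpotent group of order `p ^ t * q ^ r`. -/
theorem exists_struct (hpq : p ≠ q) (hr : 1 ≤ r) (ha : a = orderOf (p : ZMod q)) {E : Type} [Field E]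
    [Finite E] [Algebra (ZMod p) E] (hE : Nat.card E = p ^ a) {ζ : E} (hζ : orderOf ζ = q)
    {X : Type u} [Group X] [Finite X] (h1 : ¬ Cfsg.HasNormalPComplement p X)
    (h2 : ∀ K : Subgroup X, K ≠ ⊤ → Cfsg.HasNormalPComplement p ↥K) {t : ℕ}
    (hcard : Nat.card X = p ^ t * q ^ r) :
    ∃ (P : Subgroup X) (z : X) (C : Cover q ζ P), IsPGroup p P ∧ orderOf z = q ^ r ∧
      P ⊔ zpowers z = ⊤ ∧ Disjoint P (zpowers z) ∧ ∀ u : P, ((C.α u : P) : X) = z * u * z⁻¹ := by
  obtain ⟨hnil, -, hPn⟩ := Cfsg.Agent.S0132.result h1 h2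
  let P₀ : Sylow p X := default
  set P : Subgroup X := (P₀ : Subgroup X)
  haveI : P.Normal := hPn P₀
  let Q₀ : Sylow q X := default
  have hfp : Nat.card P = p ^ t := by
    rw [P₀.card_eq_multiplicity, hcard, Nat.factorization_mul (pow_ne_zero _ hp.out.ne_zero)
      (pow_ne_zero _ hq.out.ne_zero), hp.out.factorization_pow, hq.out.factorization_pow]
    simp [Ne.symm hpq]
  have hfq : Nat.card Q₀ = q ^ r := by
    rw [Q₀.card_eq_multiplicity, hcard, Nat.factorization_mul (pow_ne_zero _ hp.out.ne_zero)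
      (pow_ne_zero _ hq.out.ne_zero), hp.out.factorization_pow, hq.out.factorization_pow]
    simp [hpq]
  have hcop : (Nat.card Q₀).Coprime (Nat.card P) := by
    rw [hfp, hfq]
    exact Nat.Coprime.pow _ _ ((Nat.coprime_primes hq.out hp.out).2 (Ne.symm hpq))
  have hcompl : ∀ N : Subgroup X, N = (Q₀ : Subgroup X) → N.IsComplement' P := fun N hN => by
    subst hN
    exact isComplement'_of_coprime (by rw [hfp, hfq, hcard, mul_comm]) hcop
  have hPQ : P ⊔ (Q₀ : Subgroup X) = ⊤ := by rw [sup_comm]; exact (hcompl _ rfl).sup_eq_top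
  have hnc : ¬ (Q₀ : Subgroup X) ≤ centralizer (P : Set X) := by
    intro hle
    have hn : (Q₀ : Subgroup X).Normal := by
      rw [← normalizer_eq_top_iff, eq_top_iff, ← hPQ]
      exact sup_le ((le_centralizer_iff.1 hle).trans (centralizer_le_normalizer _)) le_normalizer
    exact h1 ⟨P₀, Q₀, hn, hcompl _ rfl⟩
  have hcommute : ∀ B : Subgroup X, IsPGroup q B → P ⊔ B ≠ ⊤ → B ≤ centralizer (P : Set X) :=
    fun B hB hne => CfsgLib.Coprime.commute_of_sup_nilpotent (Ne.symm hpq) hB P₀.2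
      le_sup_right le_sup_left (hnil _ hne)
  obtain ⟨y, hy, hytop⟩ : ∃ y ∈ (Q₀ : Subgroup X), P ⊔ zpowers y = ⊤ := by
    by_contra hcon
    push Not at hcon
    exact hnc fun y hy => hcommute _ (Q₀.2.to_le (zpowers_le.2 hy)) (hcon y hy) (mem_zpowers y)
  have hyord : orderOf y = q ^ r := by
    refine Nat.dvd_antisymm (hfq ▸ Subgroup.orderOf_dvd_natCard _ hy) ?_
    have := natCard_sup_dvd P (zpowers y)
    rw [hytop, Subgroup.card_top, hcard, hfp, Nat.card_zpowers] at this
    exact Nat.dvd_of_mul_dvd_mul_left (pow_pos hp.out.pos t) this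
  have hyQ : zpowers y = (Q₀ : Subgroup X) :=
    eq_of_le_of_card_ge (zpowers_le.2 hy) (by rw [Nat.card_zpowers, hyord, hfq])
  have hdisj : Disjoint P (zpowers y) := by
    rw [hyQ]; exact (IsPGroup.disjoint_of_ne p q hpq _ _ P₀.2 Q₀.2)
  -- generators
  have hgen : ∀ j : ℕ, ¬ q ∣ j → zpowers (y ^ j) = zpowers y ∧ orderOf (y ^ j) = q ^ r := by
    intro j hj
    have ho : orderOf (y ^ j) = q ^ r := by
      rw [Nat.Coprime.orderOf_pow, hyord]
      rw [hyord]
      exact Nat.Coprime.pow_left r ((hq.out.coprime_iff_not_dvd).2 hj)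
    exact ⟨eq_of_le_of_card_ge (zpowers_le.2 (pow_mem (mem_zpowers y) j))
      (by rw [Nat.card_zpowers, Nat.card_zpowers, ho, hyord]), ho⟩
  let α : MulAut P := MulAut.conjNormal y
  have hD : ∀ j : ℕ, ¬ q ∣ j →
      ∃ D : CfsgLib.SchmidtKernel.Data p P, D.α = α ^ j ∧ D.r = q := by
    intro j hj
    obtain ⟨hz, hzo⟩ := hgen j hj
    set z := y ^ j
    have hzq : IsPGroup q (zpowers z) := by rw [hz, hyQ]; exact Q₀.2
    refine ⟨{ α := MulAut.conjNormal z, r := q, prime := hq.out, ne := Ne.symm hpq,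
              pow_eq := ?_, ne_one := ?_, fixed := ?_ }, map_pow _ _ _, rfl⟩
    · have hne : P ⊔ zpowers (z ^ q) ≠ ⊤ := by
        intro h
        have := natCard_sup_dvd P (zpowers (z ^ q))
        rw [h, Subgroup.card_top, hcard, hfp, Nat.card_zpowers,
          orderOf_pow_of_dvd hq.out.ne_zero (hzo ▸ dvd_pow_self q (by omega)), hzo] at this
        have h3 := Nat.le_of_dvd (Nat.div_pos (Nat.le_self_pow (by omega) q) hq.out.pos)
          (Nat.dvd_of_mul_dvd_mul_left (pow_pos hp.out.pos t) this)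
        exact absurd (Nat.div_lt_self (pow_pos hq.out.pos r) hq.out.one_lt) (not_lt.2 h3)
      have hc := hcommute _ (hzq.to_le (zpowers_le.2 (pow_mem (mem_zpowers z) q))) hne (mem_zpowers _)
      refine MulEquiv.ext fun u => Subtype.ext ?_
      rw [← map_pow, MulAut.conjNormal_apply, MulAut.one_apply,
        ← mem_centralizer_iff.1 hc u u.2, mul_inv_cancel_right]
    · intro h
      refine hnc ?_
      rw [← hyQ, ← hz, zpowers_le, mem_centralizer_iff]
      intro u hu
      have h3 : z * u * z⁻¹ = u := by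
        simpa using congrArg Subtype.val (DFunLike.congr_fun h ⟨u, hu⟩)
      exact (mul_inv_eq_iff_eq_mul.1 h3).symm
    · intro U hU hne u hu
      set U' := U.map P.subtype
      have hnorm : zpowers z ≤ normalizer (U' : Set X) := by
        rw [zpowers_le, ← CfsgLib.Coprime.conjBy_eq_self_iff]
        refine eq_of_le_of_card_ge ?_ (CfsgLib.Coprime.card_conjBy z U').ge
        rintro _ ⟨_, ⟨w, hw, rfl⟩, rfl⟩
        exact ⟨MulAut.conjNormal z w, hU w hw, by simp⟩
      have htop : zpowers z ⊔ U' ≠ ⊤ := by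
        intro htop
        refine hne (eq_top_iff.2 fun w _ => ?_)
        obtain ⟨b, hb, c, hc, hbc⟩ := CfsgLib.Coprime.mem_sup_exists hnorm
          ((sup_comm (zpowers z) U').symm ▸ htop ▸ mem_top (w : X) : (w : X) ∈ U' ⊔ zpowers z)
        have hbP : b ∈ P := map_subtype_le _ hb
        have hcP : c ∈ P := by
          have := mul_mem (inv_mem hbP) w.2
          rwa [← hbc, inv_mul_cancel_left] at this
        rw [Subgroup.disjoint_def.1 hdisj hcP (hz ▸ hc), mul_one] at hbc
        obtain ⟨d, hd, hdb⟩ := hb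
        rwa [show w = d from Subtype.ext (by rw [← hbc, ← hdb]; rfl)]
      have hc := CfsgLib.Coprime.commute_of_sup_nilpotent (Ne.symm hpq) hzq
        (P₀.2.to_le (map_subtype_le U)) le_sup_left le_sup_right (hnil _ htop) (mem_zpowers z)
      refine Subtype.ext ?_
      rw [MulAut.conjNormal_apply, ← mem_centralizer_iff.1 hc u ⟨u, hu, rfl⟩, mul_inv_cancel_right]
  obtain ⟨j, hj, C, hC⟩ := exists_cover_of_data P₀.2 hpq ha hE hζ α hD
  obtain ⟨hz, hzo⟩ := hgen j hj
  refine ⟨P, y ^ j, C, P₀.2, hzo, hz ▸ hytop, hz ▸ hdisj, fun u => ?_⟩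
  rw [hC, ← map_pow, MulAut.conjNormal_apply]

end CfsgLib.UniversalSchmidt
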